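import Cfsg.Agent.HN.Top0

/-! Facts about `D0` used for standard subgroups `2.HS`. -/

set_option autoImplicit false
set_option maxRecDepth 100000
set_option exponentiation.threshold 400000
set_option Elab.async false
set_option synthInstance.maxSize 4000

namespace Cfsg.Agent.HN

open Cfsg.Agent.H58 Cfsg.Agent.H17 Cfsg.Agent.H14 Cfsg.Agent.H88 HnU Function Subgroup

theorem evK (k : ℕ) (h : k < 30720 ∧ sg k = 0 := by decide +kernel) : ev k ∈ K0 := (sg_spec h.1).2 h.2

theorem evN (k : ℕ) (h : k < 30720 ∧ sg k = 1 := by decide +kernel) : ev k ∉ K0 := fun a => by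
  have := (sg_spec h.1).1 a; omega

theorem evM (a b c : ℕ) (h : (a < 30720 ∧ b < 30720) ∧ mR a b = c := by decide +kernel) : ev a * ev b = ev c :=
  h.2 ▸ ev_mul h.1.1 h.1.2

theorem evC (a b : ℕ) (h : (a < 30720 ∧ b < 30720) ∧ mR a b = mR b a := by decide +kernel) :
    ev a * ev b = ev b * ev a := (ev_comm h.1.1 h.1.2).2 h.2

theorem evJ (g a b : ℕ) (h : (g < 30720 ∧ a < 30720 ∧ b < 30720) ∧ mR g a = mR b g := by decide +kernel) :
    ev g * ev a * (ev g)⁻¹ = ev b := by
  rw [mul_inv_eq_iff_eq_mul, ev_mul h.1.1 h.1.2.1, ev_mul h.1.2.2 h.1.1, h.2]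

theorem cjK {e : D0} (he : e ∈ K0) (d : D0) : d * e * d⁻¹ ∈ K0 := Normal.conj_mem inferInstance e he d

theorem sqK (d : D0) : d * d ∈ K0 := mul_self_mem_of_index_two index_K0 d

theorem mulN {a b : D0} (ha : a ∉ K0) (hb : b ∉ K0) : a * b ∈ K0 :=
  (mul_mem_iff_of_index_two index_K0).2 (iff_of_false ha hb)

theorem cj_c (g d : D0) : g * (d * c0) * g⁻¹ = g * d * g⁻¹ * c0 := by
  rw [← mul_assoc, mul_assoc _ c0, ← c0_comm, mul_assoc, mul_assoc, mul_assoc]

theorem cc (d : D0) : d * c0 * c0 = d := by rw [mul_assoc, c0_sq, mul_one]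

theorem conj_into8 {d : D0} (h : d ^ 8 = 1) : ∃ g, ∃ k < 30720, ev k = g⁻¹ * d * g := by
  have : Fact (Nat.Prime 2) := ⟨Nat.prime_two⟩
  have hP : IsPGroup 2 (zpowers d) := fun ⟨a, ha⟩ => ⟨3, Subtype.ext (by
    obtain ⟨n, rfl⟩ := ha
    change (d ^ n) ^ 8 = 1
    rw [← zpow_natCast, ← zpow_mul, mul_comm, zpow_mul, zpow_natCast, h, one_zpow])⟩
  obtain ⟨c, hc⟩ := hP.nonempty_fixed_point_of_prime_not_dvd_card (D0 ⧸ centralizer {ev 129}) (by
    have := card_mul_index (centralizer {ev 129})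
    rw [card_R, card_D0] at this
    change ¬ 2 ∣ index _
    omega)
  obtain ⟨m, rfl⟩ := QuotientGroup.mk_surjective c
  have h1 : ((d * m : D0) : D0 ⧸ centralizer {ev 129}) = m := hc ⟨d, mem_zpowers d⟩
  exact ⟨m, cent_cp (mem_centralizer_singleton_iff.1 (by simpa only [mul_assoc] using QuotientGroup.eq.1 h1.symm))⟩

/-- `c` is not a fourth power in `K0` -/
theorem no4 {r : D0} (hr : r ∈ K0) : r * r * (r * r) ≠ c0 := fun h => by
  obtain ⟨g, k, hk, e⟩ := conj_into8 (d := r) (by
    rw [← c0_sq, ← h]; simp only [pow_succ, pow_zero, one_mul, mul_assoc])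
  have h1 : ∀ k < 30720, sg k = 0 → mR (mR k k) (mR k k) ≠ 1 := allD (by decide +kernel)
  refine h1 k hk ((sg_spec hk).1 (e ▸ by simpa using cjK hr g⁻¹))
    (ev_inj (mR_lt (mR_lt hk hk) (mR_lt hk hk)) (by norm_num) ?_)
  rw [← ev_mul (mR_lt hk hk) (mR_lt hk hk), ← ev_mul hk hk, e, ev_one]
  calc _ = g⁻¹ * (r * r * (r * r)) * g := by group
    _ = _ := by rw [h, mul_assoc, ← c0_comm, inv_mul_cancel_left]

def t2B : List (ℕ × ℕ) := [
  (514, 1), (515, 5), (526, 9), (527, 13), (610, 65), (611, 69), (622, 361), (623, 109), (642, 33), (643, 293), (654, 41), (655, 301), (738, 97), (739,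
  357), (750, 329), (751, 333), (7952, 5775), (7953, 5713), (7956, 5817), (7957, 6077), (7960, 5939), (7961, 5871), (7964, 5925), (7965, 5665), (8080,
  6071), (8081, 5803), (8084, 5697), (8085, 5701), (8088, 5641), (8089, 5911), (8092, 5637), (8093, 5633), (8202, 3365), (8203, 3105), (8206, 3153),
  (8207, 3215), (8272, 3141), (8273, 3137), (8276, 3081), (8277, 3351), (8330, 3077), (8331, 3073), (8334, 3243), (8335, 3511), (8400, 3517), (8401,
  3257), (8404, 3379), (8405, 3311), (8728, 1715), (8729, 1975), (8752, 1605), (8753, 1601), (8774, 1541), (8775, 1537), (8814, 1843), (8815, 1775),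
  (8856, 1617), (8857, 1621), (8880, 1981), (8881, 1721), (8902, 1829), (8903, 1569), (8942, 1545), (8943, 1815), (8960, 11776), (8961, 11780), (8982,
  12136), (8983, 11884), (9024, 12026), (9025, 11994), (9046, 11840), (9047, 11844), (9088, 12014), (9089, 12266), (9110, 11908), (9111, 11904), (9152,
  12054), (9153, 11784), (9174, 12214), (9175, 11918), (9488, 525), (9489, 521), (9528, 577), (9529, 581), (9556, 841), (9557, 919), (9596, 517), (9597,
  513), (9616, 1015), (9617, 553), (9656, 697), (9657, 957), (9684, 691), (9685, 951), (9724, 805), (9725, 545), (9984, 8192), (9985, 8196), (10046,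
  8410), (10047, 8414), (10060, 8552), (10061, 8300), (10098, 8334), (10099, 8630), (10112, 8430), (10113, 8682), (10174, 8200), (10175, 8470), (10188,
  8324), (10189, 8320), (10226, 8260), (10227, 8256), (10520, 10991), (10521, 15293), (10552, 15127), (10553, 14857), (10562, 14849), (10563, 10753),
  (10594, 10817), (10595, 14929), (10648, 14913), (10649, 10761), (10680, 15087), (10681, 11191), (10690, 14881), (10691, 10785), (10722, 15287),
  (10723, 11197), (11264, 23552), (11265, 23556), (11290, 23660), (11291, 23912), (11296, 23802), (11297, 23770), (11322, 23620), (11323, 23616),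
  (11392, 23790), (11393, 24042), (11418, 23680), (11419, 23684), (11424, 23830), (11425, 23560), (11450, 23694), (11451, 23990), (12308, 7353), (12309,
  7613), (12322, 7173), (12323, 7169), (12372, 7447), (12373, 7177), (12386, 7249), (12387, 7311), (12436, 7233), (12437, 7237), (12450, 7461), (12451,
  7201), (12500, 7407), (12501, 7475), (12514, 7337), (12515, 7607), (12800, 0), (12801, 4), (12812, 8), (12813, 12), (12900, 64), (12901, 68), (12904,
  128), (12905, 132), (12928, 456), (12929, 460), (12940, 192), (12941, 196), (13028, 136), (13029, 140), (13032, 328), (13033, 332), (13568, 5632),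
  (13569, 5636), (13572, 5910), (13573, 5640), (13650, 5760), (13651, 5764), (13654, 5700), (13655, 5696), (13696, 5870), (13697, 6122), (13700, 5882),
  (13701, 5850), (13778, 5740), (13779, 5992), (13782, 5774), (13783, 6070), (14592, 3072), (14593, 3076), (14636, 3432), (14637, 3180), (14686, 3294),
  (14687, 3290), (14706, 3510), (14707, 3214), (14720, 3310), (14721, 3562), (14764, 3204), (14765, 3200), (14814, 3350), (14815, 3080), (14834, 3136),
  (14835, 3140), (15104, 516), (15105, 512), (15140, 644), (15141, 640), (15176, 690), (15177, 950), (15212, 524), (15213, 520), (15232, 754), (15233,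
  1014), (15268, 872), (15269, 620), (15304, 580), (15305, 576), (15340, 708), (15341, 704), (16128, 1536), (16129, 1540), (16154, 1714), (16155, 1974),
  (16168, 1814), (16169, 1544), (16178, 1644), (16179, 1896), (16256, 1774), (16257, 2026), (16282, 1604), (16283, 1600), (16296, 2040), (16297, 2022),
  (16306, 1664), (16307, 1668), (20992, 22528), (20993, 20480), (21046, 22806), (21047, 22536), (21064, 20608), (21065, 22636), (21118, 22966), (21119,
  20918), (21120, 22766), (21121, 20718), (21174, 20488), (21175, 20758), (21192, 20588), (21193, 22656), (21246, 22592), (21247, 20544), (21760,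
  14852), (21761, 14848), (21790, 14990), (21791, 15286), (21860, 14956), (21861, 15208), (21882, 15322), (21883, 15326), (21888, 15338), (21889,
  15086), (21918, 14916), (21919, 14912), (21988, 14976), (21989, 14980), (22010, 14856), (22011, 15126), (23558, 8225), (23559, 8485), (23566, 8335),
  (23567, 8273), (23600, 8261), (23601, 8257), (23608, 8201), (23609, 8471), (23686, 8193), (23687, 8197), (23694, 8631), (23695, 8363), (23728, 8637),
  (23729, 8377), (23736, 8499), (23737, 8431), (24340, 4787), (24341, 5047), (24362, 4609), (24363, 4613), (24400, 4677), (24401, 4673), (24430, 4847),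
  (24431, 4915), (24468, 4689), (24469, 4693), (24490, 4641), (24491, 4901), (24528, 5053), (24529, 4793), (24558, 4887), (24559, 4617), (28416, 13312),
  (28417, 13316), (28424, 13590), (28425, 13320), (28466, 13444), (28467, 13440), (28474, 13376), (28475, 13380), (28544, 13550), (28545, 13802),
  (28552, 13562), (28553, 13530), (28594, 13672), (28595, 13420), (28602, 13750), (28603, 13454), (29184, 4608), (29185, 4612), (29206, 5046), (29207,
  4786), (29252, 4886), (29253, 4616), (29266, 4968), (29267, 4716), (29312, 4846), (29313, 5098), (29334, 4672), (29335, 4676), (29380, 5112), (29381,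
  5094), (29394, 4740), (29395, 4736), (29712, 11919), (29713, 11857), (29744, 11785), (29745, 12055), (29776, 11841), (29777, 11845), (29808, 12069),
  (29809, 11809), (29840, 12215), (29841, 11947), (29872, 12083), (29873, 12015), (29904, 11961), (29905, 12221), (29936, 11781), (29937, 11777),
  (29952, 7172), (29953, 7168), (29982, 7606), (29983, 7310), (30056, 7276), (30057, 7528), (30070, 7646), (30071, 7642), (30080, 7658), (30081, 7406),
  (30110, 7232), (30111, 7236), (30184, 7296), (30185, 7300), (30198, 7446), (30199, 7176), (30208, 10752), (30209, 10756), (30244, 11112), (30245,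
  10860), (30298, 10760), (30299, 11030), (30334, 10894), (30335, 11190), (30336, 10990), (30337, 11242), (30372, 10884), (30373, 10880), (30426,
  11226), (30427, 11230), (30462, 10822), (30463, 10816), (30464, 18944), (30465, 18948), (30508, 19072), (30509, 19076), (30540, 19008), (30541,
  19012), (30560, 18952), (30561, 19222), (30592, 19182), (30593, 19434), (30636, 19052), (30637, 19304), (30668, 19382), (30669, 19086), (30688,
  19162), (30689, 19194)]

/-- the square roots of `c` form one class -/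
theorem cls2B {d : D0} (h : d * d = c0) : IsConj (ev 12800) d := by
  obtain ⟨g, k, hk, e⟩ := conj_into (d := d) (by rw [show 4 = 2 * 2 from rfl, pow_mul, pow_two d, h, pow_two, c0_sq])
  have h1 : ∀ k < 30720, mR k k = 1 → ∃ p ∈ t2B, p.1 = k := allD (by decide +kernel)
  have h2 : ∀ p ∈ t2B, p.2 / 2 < 30720 ∧ (mR (p.2 / 2) 12800 = mR p.1 (p.2 / 2) ∨
      mR (p.2 / 2) 514 = mR p.1 (p.2 / 2)) := by decide +kernel
  obtain ⟨p, hp, rfl⟩ := h1 k hk (ev_inj (mR_lt hk hk) (by norm_num) (by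
    rw [← ev_mul hk hk, e, ev_one]
    calc _ = g⁻¹ * (d * d) * g := by group
      _ = _ := by rw [h, mul_assoc, ← c0_comm, inv_mul_cancel_left]))
  have h3 : IsConj (ev p.1) d := isConj_iff.2 ⟨g, by rw [e]; group⟩
  rcases h2 p hp with ⟨a, b | b⟩
  · exact (isConj_iff.2 ⟨_, evJ _ _ _ ⟨⟨a, by norm_num, hk⟩, b⟩⟩).trans h3
  · exact ((isConj_iff.2 ⟨_, E_cj [3, 12, 5, 3, 12, 9] _ _⟩).trans
      (isConj_iff.2 ⟨_, evJ _ 514 _ ⟨⟨a, by norm_num, hk⟩, b⟩⟩)).trans h3

/-- conjugacy inside `K0` -/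
theorem kconj {a d : D0} (q : D0) (hq : q ∉ K0) (e : q * a * q⁻¹ = a ∨ q * a * q⁻¹ = a * c0) (h : IsConj a d) :
    ∃ g ∈ K0, d = g * a * g⁻¹ ∨ d = g * a * g⁻¹ * c0 := by
  obtain ⟨g, rfl⟩ := isConj_iff.1 h
  by_cases hg : g ∈ K0
  · exact ⟨g, hg, .inl rfl⟩
  · refine ⟨g * q, mulN hg hq, ?_⟩
    rw [show g * q * a * (g * q)⁻¹ = g * (q * a * q⁻¹) * g⁻¹ by group]
    exact e.imp (fun e => by rw [e]) fun e => by rw [e, cj_c, cc]

theorem kconj1 {k : ℕ} (hk : k = 128 ∨ k = 129) {d : D0} (h : IsConj (ev k) d) : ∃ g ∈ K0, d = g * ev k * g⁻¹ := by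
  obtain ⟨g, rfl⟩ := isConj_iff.1 h
  by_cases hg : g ∈ K0
  · exact ⟨g, hg, rfl⟩
  · refine ⟨g * ev 2, mulN hg (evN 2), ?_⟩
    rw [show g * ev 2 * ev k * (g * ev 2)⁻¹ = g * (ev 2 * ev k * (ev 2)⁻¹) * g⁻¹ by group,
      evJ 2 k k (by rcases hk with rfl | rfl <;> decide +kernel)]

/-- the four classes of involutions of `D0 / ⟨c⟩` -/
theorem nfD {d : D0} (h : d * d = 1 ∨ d * d = c0) : (d = 1 ∨ d = c0) ∨
    ∃ g ∈ K0, ∃ j ∈ [128, 12800, 2, 16], d = g * ev j * g⁻¹ ∨ d = g * ev j * g⁻¹ * c0 := by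
  have tc : ∀ k j, (k < 30720 ∧ j < 6) ∧ ty k = j → IsConj (ev (tr j)) d → IsConj (ev k) d := by
    rintro k _ ⟨⟨a, b⟩, rfl⟩ e; exact (ty_conj a b).symm.trans e
  rcases h with h | h
  · obtain ⟨j, hj, e⟩ := types h
    interval_cases j
    · exact .inl (.inl (isConj_one_right.1 e))
    · exact .inl (.inr (eq_c0_of_conj (ev_one ▸ e)))
    · obtain ⟨g, hg, e⟩ := kconj1 (.inr rfl) e
      exact .inr ⟨g, hg, 128, by simp, .inr (by rw [e, ← cj_c, ← ev_one, evM 128 1 129])⟩
    · obtain ⟨g, hg, e⟩ := kconj1 (.inl rfl) e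
      exact .inr ⟨g, hg, 128, by simp, .inl e⟩
    · obtain ⟨g, hg, e⟩ := kconj _ (evN 2) (.inl (mul_inv_cancel_right _ _)) (tc 2 4 (by decide +kernel) e)
      exact .inr ⟨g, hg, 2, by simp, e⟩
    · obtain ⟨g, hg, e⟩ := kconj _ (evN 16) (.inl (mul_inv_cancel_right _ _)) (tc 16 5 (by decide +kernel) e)
      exact .inr ⟨g, hg, 16, by simp, e⟩
  · obtain ⟨g, hg, e⟩ := kconj _ (evN 512) (.inr (by rw [← ev_one, evM 12800 1 12801, evJ 512 12800 12801])) (cls2B h)
    exact .inr ⟨g, hg, 12800, by simp, e⟩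

theorem ev5 : ev 256 ^ 5 = 1 := by
  simp only [pow_succ, pow_zero, one_mul]
  rw [evM 256 256 768, ev_mul (by norm_num) (by norm_num), ev_mul (by decide +kernel) (by norm_num),
    evM _ 256 0, ev_zero]

theorem ev3 : ev 3840 ^ 3 = 1 := by
  rw [pow_succ, pow_two, ev_mul (by norm_num) (by norm_num), evM _ 3840 0, ev_zero]

/-- the normal closure of an element of order five in `R ∩ K0` -/
theorem nc5 {W : Subgroup D0} (hW : ∀ k < 30720, sg k = 0 → ∀ d ∈ W, ev k * d * (ev k)⁻¹ ∈ W) {e : D0}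
    (e5 : e ^ 5 = 1) (e1 : e ≠ 1) (ew : e * ev 128 = ev 128 * e)
    (h : ∀ k < 30720, sg k = 0 → e * ev k * e⁻¹ * (ev k)⁻¹ ∈ W) : ∀ k ∈ [1, 5, 18, 256, 3840], ev k ∈ W := by
  have : Fact (Nat.Prime 5) := ⟨by norm_num⟩
  have r5 := ev5
  obtain ⟨k, hk, rfl⟩ := cent_w ew
  obtain ⟨r, hr, m, e6⟩ := exists_conj_mem_zpowers_of_mem (p := 5) (by norm_num) (H := centralizer {ev 129})
    (by rw [card_R]; norm_num) (mem_centralizer_singleton_iff.2 (ev_cp_comm hk))
    (mem_centralizer_singleton_iff.2 (ev_cp_comm (k := 256) (by norm_num))) (orderOf_eq_prime e5 e1)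
    (orderOf_eq_prime r5 fun e => absurd (ev_eq_one (by norm_num) e) (by norm_num))
  obtain ⟨q, hq, q0, e7⟩ : ∃ q < 30720, sg q = 0 ∧ ev q * ev k * (ev q)⁻¹ = ev 256 ^ m := by
    obtain ⟨l, hl, rfl⟩ := cent_cp (mem_centralizer_singleton_iff.1 hr)
    by_cases a : ev l ∈ K0
    · exact ⟨l, hl, (sg_spec hl).1 a, e6.symm⟩
    · refine ⟨mR 46 l, mR_lt (by norm_num) hl, (sg_spec (mR_lt (by norm_num) hl)).1
        (ev_mul (a := 46) (by norm_num) hl ▸ mulN (evN 46) a), ?_⟩
      rw [← ev_mul (by norm_num) hl, show ∀ a b c : D0, a * b * c * (a * b)⁻¹ = a * (b * c * b⁻¹) * a⁻¹ from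
        fun a b c => by group, ← show ev 256 ^ m = _ from e6, ← conj_zpow, evJ 46 256 256]
  have s1 : ev 28416 * ev 256 ^ m * (ev 28416)⁻¹ = (ev 256 ^ m)⁻¹ := by
    rw [← conj_zpow, evJ 28416 256 2816, ← inv_zpow, inv_eq_of_mul_eq_one_right ((evM 256 2816 0).trans ev_zero)]
  have s2 : ev 256 ^ m * ev 256 ^ m ∈ W := by
    have a1 := (invR_spec hq).1
    have a2 := mR_lt a1 (mR_lt (a := 28416) (by norm_num) hq)
    have a3 : ev (mR (invR q) (mR 28416 q)) = (ev q)⁻¹ * (ev 28416 * ev q) := by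
      rw [← ev_mul a1 (mR_lt (by norm_num) hq), ← ev_mul (by norm_num) hq, ev_inv hq]
    have := hW q hq q0 _ (h _ a2 ((sg_spec a2).1 (a3 ▸ mul_mem (inv_mem ((sg_spec hq).2 q0))
      (mul_mem (evK 28416) ((sg_spec hq).2 q0)))))
    rw [a3] at this
    convert this using 1
    calc _ = ev 256 ^ m * (ev 28416 * ev 256 ^ m * (ev 28416)⁻¹)⁻¹ := by rw [s1, inv_inv]
      _ = _ := by rw [← e7]; group
  have h256 : ev 256 ∈ W := by
    have a1 : ev 256 ^ m * ev 256 ^ m ≠ 1 := fun a => e1 (by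
      rw [← e7, conj_mul, conj_eq_one_iff] at a
      calc ev k = ev k * (ev k * ev k) * (ev k * ev k) := by rw [a, mul_one, mul_one]
        _ = 1 := by rw [← e5]; simp only [pow_succ, pow_zero, one_mul, mul_assoc])
    have a2 : (zpowers (ev 256 ^ m * ev 256 ^ m)) = zpowers (ev 256) :=
      eq_of_le_of_card_ge (zpowers_le.2 (mul_mem (zpow_mem_zpowers _ _) (zpow_mem_zpowers _ _))) (by
        rw [Nat.card_zpowers, Nat.card_zpowers, orderOf_eq_prime (p := 5) _ a1]
        · exact orderOf_le_of_pow_eq_one (by norm_num) r5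
        · rw [← zpow_add, ← zpow_natCast, ← zpow_mul, mul_comm, zpow_mul, zpow_natCast, r5, one_zpow])
    exact zpowers_le.2 s2 (a2.ge (mem_zpowers _))
  have cj : ∀ g a b, ev a ∈ W → (g < 30720 ∧ sg g = 0) ∧ (g < 30720 ∧ a < 30720 ∧ b < 30720) ∧ mR g a = mR b g →
      ev b ∈ W := fun g a b ha e => evJ g a b e.2 ▸ hW g e.1.1 e.1.2 _ ha
  have h5 : ev 5 ∈ W := evM 2590 10875 5 ▸ mul_mem (cj 514 256 2590 h256 (by decide +kernel))
    (cj 20486 256 10875 h256 (by decide +kernel))
  have h4 : ev 4 ∈ W := evM 197 193 4 ▸ mul_mem (cj 1794 5 197 h5 (by decide +kernel))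
    (cj 9474 5 193 h5 (by decide +kernel))
  simp only [List.forall_mem_cons]
  exact ⟨evM 5 4 1 ▸ mul_mem h5 h4, h5, evM (mR 4 97) 247 18 ▸ mul_mem (evM 4 97 (mR 4 97) ▸
    mul_mem h4 (cj 1026 4 97 h4 (by decide +kernel))) (cj 3106 4 247 h4 (by decide +kernel)), h256,
    evM 256 2560 3840 ▸ mul_mem h256 (cj 558 256 2560 h256 (by decide +kernel)), by simp⟩

/-- the centraliser of `O²(R)` -/
theorem cenA {d : D0} (h0 : d * ev 128 = ev 128 * d) (h1 : d * ev 256 = ev 256 * d) (h2 : d * ev 3840 = ev 3840 * d) :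
    ∃ k ∈ [0, 1, 128, 129, 18, 19, 146, 147], d = ev k := by
  obtain ⟨k, hk, rfl⟩ := cent_w h0
  have h : ∀ k < 30720, mR k 256 = mR 256 k → mR k 3840 = mR 3840 k → k ∈ [0, 1, 128, 129, 18, 19, 146, 147] :=
    allD (by decide +kernel)
  exact ⟨k, h k hk ((ev_comm hk (by norm_num)).1 h1) ((ev_comm hk (by norm_num)).1 h2), rfl⟩

theorem sq18 {d : D0} (h0 : d * ev 128 = ev 128 * d) : d * d * ev 18 = ev 18 * (d * d) := by
  obtain ⟨k, hk, rfl⟩ := cent_w h0
  have h : ∀ k < 30720, mR (mR k k) 18 = mR 18 (mR k k) := allD (by decide +kernel)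
  rw [ev_mul hk hk]
  exact (ev_comm (mR_lt hk hk) (by norm_num)).2 (h k hk)

/-- the image of a square root of `c` has no square root centralising the elements of odd order that it centralises -/
theorem no2B {r : D0} (h : ∀ y ∈ K0, y ^ 3 = 1 → y * ev 12800 = ev 12800 * y → r * y = y * r) :
    r * r ≠ ev 12800 ∧ r * r ≠ ev 12800 * c0 := by
  have a : ∀ w : List ℕ, (∀ x ∈ w, x ∈ HnF.g0) ∧ w.count 5 % 2 = 0 → eqW (w ++ w ++ w) [] = true →
      eqW (w ++ evW 12800) (evW 12800 ++ w) = true → Commute r (E w) := fun w a b c =>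
    h _ ((E_mem_K0 w a.1).2 a.2) (by rw [pow_succ, pow_two, ← E_append, ← E_append, E_eq _ _ b, E_nil]) (E_comm _ _ c)
  have a1 := a rhW (by decide +kernel) (by decide +kernel) (by decide +kernel)
  have a2 := a [4, 14, 3, 8, 8, 4, 13, 13, 4] (by decide +kernel) (by decide +kernel) (by decide +kernel)
  have a3 : Commute r (ev 129) := by
    rw [show ev 129 = _ from (E_eq _ _ (by decide +kernel)).trans (E_append rhW [4, 14, 3, 8, 8, 4, 13, 13, 4])]
    exact a1.mul_right a2
  have a4 : Commute r (ev 528) := by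
    rw [← show E rhW * ev 129 * (E rhW)⁻¹ = ev 528 from E_cj _ _ _]
    exact (a1.mul_right a3).mul_right a1.inv_right
  obtain ⟨k, hk, rfl⟩ := cent_cp a3
  have h1 : ∀ k < 30720, mR k 528 = mR 528 k → mR k k ≠ 12800 ∧ mR k k ≠ 12801 := allD (by decide +kernel)
  rw [← ev_one, evM 12800 1 12801, ev_mul hk hk]
  exact (h1 k hk ((ev_comm hk (by norm_num)).1 a4)).imp (mt (ev_inj (mR_lt hk hk) (by norm_num)))
    (mt (ev_inj (mR_lt hk hk) (by norm_num)))

end Cfsg.Agent.HN
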