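import Cfsg.Agent.HN.Top0

set_option autoImplicit false

namespace Cfsg.Agent.HN

open Cfsg.Agent.H17 HnU Subgroup

theorem e1_cen {x : Spor.HN} (h : ∀ y, y * x = x * y) : x = 1 := by
  obtain ⟨Q, T⟩ := top0
  rcases IsSimpleGroup.eq_bot_or_eq_top_of_normal (center Spor.HN) inferInstance with e | e
  · exact mem_bot.1 (e ▸ mem_center_iff.2 h)
  · obtain ⟨g, hg⟩ := isConj_iff.1 T.cw
    rw [mem_center_iff.1 (e ▸ mem_top (ψ0 c0)) g, mul_inv_cancel_right, left_eq_mul] at hg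
    exact absurd hg T.w1

theorem e1_norm {G : Type*} [Group G] {H : Subgroup G} {o : G} (h : ∀ x ∈ H, o * x = x * o) :
    o ∈ normalizer (H : Set G) := by
  refine centralizer_le_normalizer (H : Set G) fun x hx => (h x hx).symm

theorem end1 {G : Type*} [Group G] [Finite G] [IsSimpleGroup G] (f : Spor.HN →* G) (hf : Function.Injective f)
    (O : Subgroup G) (hO : ∀ o ∈ O, o * o = 1 → o = 1) (hOf : ∀ o ∈ O, ∀ x, o * f x = f x * o)
    (nw : ¬ IsConj (f (ψ0 c0)) (f (ψ0 (ev 128))))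
    (hc : ∀ g, g * f (ψ0 c0) = f (ψ0 c0) * g → ∃ d, ∃ o ∈ O, g = f (ψ0 d) * o) :
    Function.Surjective f := by
  obtain ⟨Q, T⟩ := top0
  have h1 : ∀ {x}, f x = 1 → x = 1 := fun h => hf (h.trans (map_one f).symm)
  have hm : ∀ {x y z t}, f x * f y = f z * f t ↔ x * y = z * t := by
    intro x y z t
    rw [← map_mul, ← map_mul, hf.eq_iff]
  have hA : ∀ x, ∀ o ∈ O, f x * o * (f x * o) = 1 → o = 1 := by
    intro x o ho e
    have e' : f (x * x) * (o * o) = 1 := by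
      rw [← e, map_mul, mul_assoc (f x) o, ← mul_assoc o, hOf o ho]; group
    have hx : x * x = 1 := e1_cen fun y => hf (by
      rw [map_mul, map_mul f (x * x), eq_inv_of_mul_eq_one_left e']
      exact (hOf _ (O.inv_mem (O.mul_mem ho ho)) y).symm)
    rw [hx, map_one, one_mul] at e'
    exact hO o ho e'
  have c2 : ∀ {g}, IsConj (f (ψ0 c0)) g → g * g = 1 := by
    intro g hg
    obtain ⟨k, rfl⟩ := isConj_iff.1 hg
    rw [conj_mul, ← map_mul, T.c2, map_one, mul_one, mul_inv_cancel]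
  have hB : ∀ {x}, IsConj (f (ψ0 c0)) (f x) ↔ IsConj (ψ0 c0) x := by
    refine fun {x} => ⟨fun h => ?_, f.map_isConj⟩
    rcases cls0 (h1 ((map_mul f x x).trans (c2 h))) with e | e | e
    · rw [e, map_one, isConj_one_left] at h
      exact absurd (h1 h) T.c1
    · exact e
    · exact absurd (h.trans (f.map_isConj e).symm) nw
  have hB' : ∀ {x y}, IsConj (f (ψ0 c0)) (f x * f y) ↔ IsConj (ψ0 c0) (x * y) := by
    intro x y
    rw [← map_mul, hB]
  have hI : ∀ {g}, g * f (ψ0 c0) = f (ψ0 c0) * g → g * g = 1 → ∃ x, f x = g := by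
    intro g hg e
    obtain ⟨d, o, ho, rfl⟩ := hc g hg
    exact ⟨_, by rw [hA _ o ho e, mul_one]⟩
  have hN : ∀ x, f x ∈ normalizer (f.range : Set G) := fun x => le_normalizer ⟨x, rfl⟩
  have hQ : ∀ {x}, x ∈ normalizer (Q : Set Spor.HN) → f x ∈ normalizer (Q.map f : Set G) :=
    fun hx => le_normalizer_map f ⟨_, hx, rfl⟩
  have ne : ∀ {x y}, f x ≠ f y ↔ x ≠ y := hf.ne_iff
  have ne1 : ∀ {x}, f x ≠ 1 ↔ x ≠ 1 := hf.ne_iff' (map_one f)
  have T' : TopData (f (ψ0 c0)) (f (ψ0 (ev 128))) (Q.map f) (normalizer (f.range : Set G)) :=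
    { c2 := c2 (IsConj.refl _)
      c1 := ne1.2 T.c1
      w2 := by rw [← map_mul, T.w2, map_one]
      w1 := ne1.2 T.w1
      cQ := ⟨_, T.cQ, rfl⟩
      wQ := ⟨_, T.wQ, rfl⟩
      nc := nw
      cw := hB'.2 T.cw
      wc := by rintro _ ⟨a, ha, rfl⟩; exact hm.2 (T.wc a ha)
      comm := by
        rintro _ ⟨a, ha, rfl⟩ _ ⟨b, hb, rfl⟩
        rw [hm, ← map_mul f b, hm]
        exact T.comm a ha b hb
      sq := by
        rintro _ ⟨a, ha, rfl⟩
        rw [← map_mul, hf.eq_iff, ← map_one f, hf.eq_iff]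
        exact T.sq a ha
      cen := by
        rintro _ ⟨a, ha, rfl⟩ h
        rw [hf.eq_iff, ← map_one f, hf.eq_iff]
        exact T.cen a ha fun b hb => hm.1 (h _ ⟨b, hb, rfl⟩)
      gen := by
        refine (map_mono T.gen).trans ?_
        rw [MonoidHom.map_closure]
        refine closure_mono ?_
        rintro _ ⟨x, hx, rfl⟩
        exact ⟨⟨x, hx.1, rfl⟩, hB.2 hx.2⟩
      trans := by
        rintro _ ⟨x, hx, rfl⟩ h
        obtain ⟨k, -, hk, e⟩ := T.trans x hx (hB.1 h)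
        exact ⟨f k, hN k, hQ hk, by rw [← e, map_mul, map_mul, map_inv]⟩
      HL := fun a ha => by
        obtain ⟨d, o, ho, rfl⟩ := hc a ha
        exact mul_mem (hN _) (e1_norm (by rintro _ ⟨x, rfl⟩; exact hOf o ho x))
      cls := fun a ha e => by
        obtain ⟨x, rfl⟩ := hI ha e
        rcases cls0 (h1 ((map_mul f x x).trans e)) with h | h | h
        · exact .inl (by rw [h, map_one])
        · obtain ⟨k, rfl⟩ := isConj_iff.1 h
          exact .inr (.inl ⟨f k, hN k, by rw [map_mul, map_mul, map_inv]⟩)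
        · obtain ⟨k, rfl⟩ := isConj_iff.1 h
          exact .inr (.inr ⟨f k, hN k, by rw [map_mul, map_mul, map_inv]⟩)
      RN := fun k h h' => by
        obtain ⟨d, o, ho, rfl⟩ := hc k h
        rw [mul_assoc, hOf o ho, ← mul_assoc, ← mul_assoc, mul_left_inj, hm] at h h'
        exact mul_mem (hQ (T.RN _ h h')) (e1_norm (by rintro _ ⟨x, -, rfl⟩; exact hOf o ho x))
      q5 := fun j h h' a b => by
        obtain ⟨x, rfl⟩ := hI h (c2 a)
        exact ⟨x, T.q5 x (hm.1 h) (hm.1 h') (hB.1 a) (hB'.1 b), rfl⟩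
      q6 := fun u uu h h' => by
        obtain ⟨n, hn, e⟩ : ∃ n ∈ Q, ψ0 c0 * n = ψ0 (ev 128) * (n * ψ0 c0) := by
          by_contra a
          push Not at a
          rcases T.cen _ T.cQ fun b hb => (T.comm _ T.cQ b hb).resolve_right (a b hb) with e | e
          · exact T.c1 e
          · exact T.nc (e ▸ IsConj.refl _)
        obtain ⟨d, o, ho, e'⟩ := hc (f n * u) (by
          have e1 : u * f (ψ0 c0) = f (ψ0 c0) * f (ψ0 (ev 128)) * u := by
            rw [← h, mul_assoc _ u u, uu, mul_one]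
          have e2 : n * (ψ0 c0 * ψ0 (ev 128)) = ψ0 c0 * n := by
            rw [e, ← mul_assoc, T.wc _ (Q.mul_mem hn T.cQ)]
          rw [mul_assoc, e1, ← mul_assoc, ← mul_assoc (f (ψ0 c0)), ← map_mul, ← map_mul, e2, map_mul])
        have e3 : u = f (n⁻¹ * ψ0 d) * o := by rw [map_mul, map_inv, mul_assoc, ← e', inv_mul_cancel_left]
        rw [hA _ o ho (e3 ▸ uu), mul_one] at e3
        subst e3
        refine ⟨_, T.q6 _ (h1 ((map_mul f _ _).trans uu)) ?_ (hm.1 h'), rfl⟩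
        rwa [← map_mul, hm] at h
      q7 := by
        rintro _ ⟨y, hy, rfl⟩ a1 a2 a3 a4 a5 _ ⟨a, ha, rfl⟩ b1 b2 b3
        rw [hB']
        exact T.q7 y hy (hm.1 a1) (mt hB.2 a2) (hB'.1 a3) (ne.1 a4) (ne1.1 a5) a ha (hB.1 b1) (hm.1 b2)
          (mt hm.2 b3)
      q8 := by
        rintro _ ⟨y, hy, rfl⟩ a1 a2 a3 a4 a5
        obtain ⟨h, b1, b2, b3⟩ := T.q8 y hy (hm.1 a1) (mt hB.2 a2) (hB'.1 a3) (ne.1 a4) (ne1.1 a5)
        exact ⟨f h, hm.2 b1, by rw [← b2, map_mul, map_mul, map_inv],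
          _, b3, by rw [map_mul, map_mul, map_inv]⟩
      q9 := by
        rintro _ ⟨y, hy, rfl⟩ a1 a2 a3 a4 a5
        obtain ⟨x, hx, b1, b2, b3, b4, b5⟩ :=
          T.q9 y hy (hm.1 a1) (mt hB.2 a2) (hB'.1 a3) (ne.1 a4) (ne1.1 a5)
        exact ⟨_, ⟨x, hx, rfl⟩, hB.2 b1, hm.2 b2, hm.2 b3, hB'.2 b4, hB'.2 b5⟩
      tri := by
        obtain ⟨z, hz, b1, b2, b3⟩ := T.tri
        exact ⟨_, ⟨z, hz, rfl⟩, hm.2 b1, hB.2 b2, hB'.2 b3⟩
      q11 := by
        rintro _ ⟨a, ha, rfl⟩ _ ⟨b, hb, rfl⟩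
        obtain ⟨x, hx, b1, b2, b3⟩ := T.q11 a ha b hb
        exact ⟨_, ⟨x, hx, rfl⟩, hB.2 b1, hm.2 b2, hm.2 b3⟩
      q12 := by
        obtain ⟨y, hy, b1, b2, b3, b4⟩ := T.q12
        exact ⟨_, ⟨y, hy, rfl⟩, by rw [← map_mul, b1, map_one], ne1.2 b2, ne.2 b3, mt hB.1 b4⟩ }
  rw [← MonoidHom.range_eq_top]
  refine (IsSimpleGroup.eq_bot_or_eq_top_of_normal _ (normalizer_eq_top_iff.1 T'.top.1)).resolve_left
    fun e => T'.c1 (mem_bot.1 (e ▸ ⟨_, rfl⟩))

end Cfsg.Agent.HN
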