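import Cfsg.Agent.HN.Top0
import Cfsg.Agent.STD.Top

set_option autoImplicit false

namespace Cfsg.Agent.HN

open Cfsg.Agent.H17 HnU Subgroup H91

theorem end2_cent {G : Type*} [Group G] [Finite G] (hG : IsPGroup 2 G) (N : Subgroup G) [N.Normal] (hN : N ≠ ⊥) :
    ∃ z ∈ N, orderOf z = 2 ∧ z ∈ center G := by
  letI : MulAction G N := MulAction.compHom N (MulAut.conjNormal (H := N))
  obtain ⟨b, hb, hb1⟩ := hG.exists_fixed_point_of_prime_dvd_card_of_fixed_point N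
    ((hG.to_subgroup N).card_eq_or_dvd.resolve_left fun h => hN (card_eq_one.1 h))
    (a := 1) (fun g => map_one (MulAut.conjNormal g))
  obtain ⟨z, hz⟩ := exists_prime_orderOf_dvd_card' (G := ↥(N ⊓ center G)) 2
    ((hG.to_subgroup _).card_eq_or_dvd.resolve_left fun h => hb1 (Subtype.ext (mem_bot.1 (card_eq_one.1 h ▸
      ⟨b.2, mem_center_iff.2 fun g => mul_inv_eq_iff_eq_mul.1 (congrArg Subtype.val (hb g))⟩ :
        (b : G) ∈ (⊥ : Subgroup G))).symm))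
  exact ⟨z, z.2.1, by rw [orderOf_coe, hz], z.2.2⟩

theorem end2_abs {G H D : Type*} [Group G] [Finite G] [IsSimpleGroup G] [Group H] [Group D] [Finite D] (ψ : D →* H)
    (hψ : Function.Injective ψ) (c w l : D) (K : Subgroup D) (c1 : c ≠ 1) (c2 : c * c = 1) (l2 : l * l = c) (lK : l ∈ K)
    (hz : ∀ x : H, (∀ y, x * y = y * x) → x = 1) (cen : ∀ g, g * ψ c = ψ c * g → ∃ d, ψ d = g)
    (cls : ∀ u : H, u * u = 1 → u = 1 ∨ IsConj (ψ c) u ∨ IsConj (ψ w) u)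
    (cK : ∀ d, (∀ e ∈ K, d * e = e * d) → d * d = 1) (hn : 2 * Nat.card D ∣ Nat.card H)
    (f : H →* G) (hf : Function.Injective f)
    (O : Subgroup G) (hO : ∀ o ∈ O, o * o = 1 → o = 1) (hOf : ∀ o ∈ O, ∀ x, o * f x = f x * o)
    (nw : ¬ IsConj (f (ψ c)) (f (ψ w))) (k : G) (k2 : k * k = f (ψ c)) (kK : ∀ d ∈ K, k * f (ψ d) = f (ψ d) * k)
    (kf : k ∈ normalizer (f.range : Set G)) (kO : k ∈ normalizer (O : Set G))
    (hc : ∀ g, g * f (ψ c) = f (ψ c) * g → ∃ d, ∃ o ∈ O, g = f (ψ d) * o ∨ g = f (ψ d) * o * k)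
    (hl : ¬ IsConj (f (ψ c)) (f (ψ l) * k)) : False := by
  have sw : ∀ x y, ∀ o ∈ O, ∀ p, f x * o * (f y * p) = f (x * y) * (o * p) := fun x y o ho p => by
    rw [mul_assoc, ← mul_assoc o, hOf o ho, map_mul]; group
  let M1 : Subgroup G :=
    { carrier := {g | ∃ x, ∃ o ∈ O, g = f x * o}
      one_mem' := ⟨1, 1, one_mem _, by simp⟩
      mul_mem' := by
        rintro _ _ ⟨x, o, ho, rfl⟩ ⟨y, p, hp, rfl⟩
        exact ⟨_, _, mul_mem ho hp, sw x y o ho p⟩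
      inv_mem' := by
        rintro _ ⟨x, o, ho, rfl⟩
        exact ⟨x⁻¹, _, inv_mem ho, by rw [mul_inv_rev, ← map_inv, hOf _ (inv_mem ho)]⟩ }
  have m1 : ∀ x, f x ∈ M1 := fun x => ⟨x, 1, one_mem _, (mul_one _).symm⟩
  have C2 : f (ψ c) * f (ψ c) = 1 := by rw [← map_mul, ← map_mul, c2, map_one, map_one]
  have C1 : f (ψ c) ≠ 1 := fun e => c1 (hψ (hf (by rw [e, map_one, map_one])))
  have A : ∀ a ∈ M1, a * a = 1 → ∃ x, x * x = 1 ∧ f x = a := by
    rintro _ ⟨x, o, ho, rfl⟩ h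
    rw [sw x x o ho] at h
    have := hz (x * x) fun y => hf (by
      rw [map_mul f _ y, map_mul f y, eq_inv_of_mul_eq_one_left h, hOf _ (inv_mem (mul_mem ho ho))])
    rw [this, map_one, one_mul] at h
    exact ⟨x, this, by rw [hO o ho h, mul_one]⟩
  have cf : ∀ {x y}, IsConj x y → IsConj (f x) (f y) := fun h => f.map_isConj h
  have D1 : ∀ g, g * f (ψ c) * g⁻¹ ∈ M1 → g ∈ M1 ∨ g * k⁻¹ ∈ M1 := fun g hg => by
    obtain ⟨x, x2, e⟩ := A _ hg (by rw [conj_mul, C2]; group)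
    have e1 : IsConj (f (ψ c)) (f x) := isConj_iff.2 ⟨g, e.symm⟩
    rcases cls x x2 with rfl | h | h
    · exact (C1 (isConj_one_left.1 (map_one f ▸ e1))).elim
    · obtain ⟨y, rfl⟩ := isConj_iff.1 h
      rw [map_mul, map_mul, map_inv] at e
      obtain ⟨d, o, ho, h⟩ := hc ((f y)⁻¹ * g) (by
        calc _ = (f y)⁻¹ * (g * f (ψ c) * g⁻¹) * g := by group
          _ = _ := by rw [← e]; group)
      refine h.imp (fun h => ?_) fun h => ?_ <;> refine (mul_mem_cancel_left (inv_mem (m1 y))).1 ⟨ψ d, o, ho, ?_⟩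
      exacts [h, by rw [← mul_assoc, h, mul_inv_cancel_right]]
    · exact (nw (e1.trans (cf h).symm)).elim
  set M := normalizer (f.range : Set G) with hM
  have le1 : M1 ≤ M := by
    rintro _ ⟨x, o, ho, rfl⟩
    exact mul_mem (le_normalizer ⟨x, rfl⟩) (centralizer_le_normalizer _ (by rintro _ ⟨y, rfl⟩; exact (hOf o ho y).symm))
  have D2 : ∀ g ∈ M, g ∈ M1 ∨ g * k⁻¹ ∈ M1 := fun g hg => D1 g (by
    obtain ⟨x, e⟩ := (mem_normalizer_iff.1 hg _).1 ⟨ψ c, rfl⟩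
    exact e ▸ m1 x)
  have kn : ∀ a ∈ M1, k * a * k⁻¹ ∈ M1 := by
    rintro _ ⟨x, o, ho, rfl⟩
    obtain ⟨y, e⟩ := (mem_normalizer_iff.1 kf _).1 ⟨x, rfl⟩
    exact ⟨y, _, (mem_normalizer_iff.1 kO _).1 ho, by rw [e, conj_mul]⟩
  have C : ∀ h, h * k * h⁻¹ ∈ M → h ∈ M := fun h hh => by
    refine (D1 h ?_).elim (le1 ·) fun e => (mul_mem_cancel_right (inv_mem kf)).1 (le1 e)
    rw [← k2, ← conj_mul]
    generalize h * k * h⁻¹ = g at *
    refine (D2 g hh).elim (fun e => mul_mem e e) fun e => ?_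
    rw [show g * g = g * k⁻¹ * (k * (g * k⁻¹) * k⁻¹) * (k * k) by group, k2]
    exact mul_mem (mul_mem e (kn _ e)) (m1 _)
  have kM : k ∉ M1 := by
    rintro ⟨x, o, ho, e⟩
    have e1 : ∀ y, k * f y = f y * k → x * y = y * x := fun y h => hf (mul_right_cancel (b := o) (by
      rw [e, mul_assoc, hOf o ho] at h
      rw [map_mul, map_mul, mul_assoc, h, mul_assoc]))
    obtain ⟨d, rfl⟩ := cen x (e1 _ (by rw [← k2, mul_assoc]))
    have e2 := cK d fun a ha => hψ (by rw [map_mul, map_mul, e1 _ (kK a ha)])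
    rw [e, sw _ _ o ho, ← map_mul ψ, e2, map_one, map_one, one_mul] at k2
    exact C1 (k2 ▸ hO _ (mul_mem ho ho) (k2 ▸ C2))
  have k4 : k ^ 2 ^ 2 = 1 := by rw [← C2, ← k2]; simp [pow_succ, mul_assoc]
  obtain ⟨P, hP, kP⟩ := exists_sylIn_ge (STD.isPGroup_zpowers k4) (zpowers_le.2 kf)
  replace kP := zpowers_le.1 kP
  obtain ⟨S, rfl⟩ := H8.exists_sylow_eq_of_maximal hP.isPGroup (K := M)
    (fun h hh => C h (hP.le ((mem_normalizer_iff.1 hh k).1 kP))) fun E a b c => hP.eq_of_le a b c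
  have lk := kK l lK
  set u := f (ψ l) * k with hu
  have u2 : u * u = 1 := by
    rw [hu, mul_assoc, ← mul_assoc k, lk, mul_assoc, k2, ← mul_assoc, ← map_mul f (ψ l), ← map_mul ψ, l2, C2]
  have uM : ∀ m ∈ M, m * u * m⁻¹ ∉ M1 := fun m hm h => by
    obtain ⟨x, -, e⟩ := A _ h (by rw [conj_mul, u2]; group)
    obtain ⟨y, e⟩ := (mem_normalizer_iff.1 hm u).2 ⟨x, e⟩
    exact kM ((mul_mem_cancel_left (m1 _)).1 (hu ▸ e ▸ m1 y))
  have u1 : u ≠ 1 := fun e => uM 1 (one_mem _) (by simp [e])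
  obtain ⟨m, hm, mS⟩ := STD.exists_conj_mem hP (mul_mem (le1 (m1 _)) kf : u ∈ M) (k := 1) (by simpa [sq] using u2)
  obtain ⟨N, hN, i2, h⟩ | ⟨g, -, h⟩ := S0111.result S (S ⊓ M1) inf_le_left (relIndex_eq_two_iff.2 ⟨k, kP, fun b hb => by
      by_cases h : b ∈ M1
      · exact .inr ⟨⟨hb, h⟩, fun e => kM ((mul_mem_cancel_left h).1 e.2)⟩
      · refine .inl ⟨⟨mul_mem hb kP, ?_⟩, fun e => h e.2⟩
        rw [show b * k = b * k⁻¹ * (k * k) by group, k2]
        exact mul_mem ((D2 b (hP.le hb)).resolve_left h) (m1 _)⟩) _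
      (orderOf_eq_prime (by rw [sq, conj_mul, u2]; group) (by simpa using u1)) mS fun e => uM m hm e.2
  · rcases hN.eq_bot_or_eq_top with rfl | rfl
    · exact C1 (k2 ▸ mem_bot.1 (mul_self_mem_of_index_two i2 k))
    · exact h (mem_top _)
  obtain ⟨x, x2, e⟩ := A _ h (by rw [conj_mul, conj_mul, u2]; group)
  have e1 : IsConj u (f x) := isConj_iff.2 ⟨g * m, by rw [e, hu]; group⟩
  have uw : IsConj (f (ψ w)) u := by
    rcases cls x x2 with rfl | h | h
    exacts [(u1 (isConj_one_left.1 (map_one f ▸ e1))).elim, (hl ((cf h).trans e1.symm)).elim, (cf h).trans e1.symm]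
  haveI : (f.range.subgroupOf S).Normal := ⟨fun n hn s => (mem_normalizer_iff.1 (hP.le s.2) n).1 hn⟩
  obtain ⟨j, ⟨y, hy⟩, j2, jZ⟩ := end2_cent S.isPGroup' (f.range.subgroupOf S) fun e => C1 (k2.symm.trans
    (congrArg Subtype.val (mem_bot.1 (e.le (x := ⟨k * k, mul_mem kP kP⟩) ⟨ψ c, k2.symm⟩))))
  replace jZ : ∀ s ∈ S, s * f y = f y * s := fun s hs => hy ▸ congrArg Subtype.val (mem_center_iff.1 jZ ⟨s, hs⟩)
  replace j2 : orderOf y = 2 := by rw [← orderOf_injective f hf, hy]; exact (orderOf_coe j).trans j2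
  rcases cls y (by rw [← sq, ← j2, pow_orderOf_eq_one]) with rfl | h | h
  · simp at j2
  · obtain ⟨z, rfl⟩ := isConj_iff.1 h
    have h1 := hP.inf_normal (N := f.range) fun a ha n hn => (mem_normalizer_iff.1 ha n).1 hn
    rw [inf_eq_right.2 (le_normalizer : f.range ≤ M)] at h1
    have h2 := card_mul_relIndex h1.le
    obtain ⟨b, h3⟩ : Nat.card ↥(S ⊓ f.range : Subgroup G) ∣ Nat.card D :=
      (card_dvd_of_le (K := (f.comp ((MulAut.conj z).toMonoidHom.comp ψ)).range) (by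
        rintro _ ⟨hs, t, rfl⟩
        have := hf (((map_mul f _ _).trans (jZ _ hs)).trans (map_mul f _ _).symm)
        obtain ⟨d, e⟩ := cen (z⁻¹ * t * z) (by
          calc _ = z⁻¹ * (t * (z * ψ c * z⁻¹)) * z := by group
            _ = _ := by rw [this]; group)
        exact ⟨d, by simp [e, mul_assoc]⟩)).trans (card_range_dvd _)
    rw [← Nat.card_congr (MonoidHom.ofInjective hf).toEquiv] at h2
    rw [← h2, h3, mul_left_comm] at hn
    exact h1.not_dvd ((Dvd.intro _ rfl).trans (Nat.dvd_of_mul_dvd_mul_left Nat.card_pos hn))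
  · obtain ⟨h, e⟩ := isConj_iff.1 (uw.symm.trans (cf h))
    obtain ⟨a, ha, h1⟩ := STD.exists_conj_mem ((sylIn_top S).of_le (B := centralizer {f y})
      (fun s hs => mem_centralizer_singleton_iff.2 (jZ s hs)) le_top) (x := h * k * h⁻¹) (k := 2)
      (mem_centralizer_singleton_iff.2 (by rw [← e, conj_mul, conj_mul, hu, ← mul_assoc k, lk]))
      (by rw [conj_pow, k4]; group)
    refine uM _ (C (a * h) (hP.le (by simpa [mul_assoc] using h1))) ?_
    rw [show a * h * u * (a * h)⁻¹ = a * (h * u * h⁻¹) * a⁻¹ by group, e, mem_centralizer_singleton_iff.1 ha,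
      mul_inv_cancel_right]
    exact m1 y

theorem end2 {G : Type*} [Group G] [Finite G] [IsSimpleGroup G] (f : Spor.HN →* G) (hf : Function.Injective f)
    (O : Subgroup G) (hO : ∀ o ∈ O, o * o = 1 → o = 1) (hOf : ∀ o ∈ O, ∀ x, o * f x = f x * o)
    (nw : ¬ IsConj (f (ψ0 c0)) (f (ψ0 (ev 128)))) (k : G) (k2 : k * k = f (ψ0 c0))
    (kK : ∀ d ∈ K0, k * f (ψ0 d) = f (ψ0 d) * k)
    (kf : k ∈ Subgroup.normalizer (f.range : Set G)) (kO : k ∈ Subgroup.normalizer (O : Set G))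
    (hc : ∀ g, g * f (ψ0 c0) = f (ψ0 c0) * g → ∃ d, ∃ o ∈ O, g = f (ψ0 d) * o ∨ g = f (ψ0 d) * o * k)
    (hl : ¬ IsConj (f (ψ0 c0)) (f (ψ0 (ev 514)) * k)) : False :=
  haveI := cle0.1
  end2_abs ψ0 HnS.inj0 c0 _ _ K0 c0_ne c0_sq (ev_one ▸ F_mul' (MonoidHom.id _) 514 514 1)
    ((sg_spec (by norm_num)).2 (by decide +kernel))
    (fun x hx => (IsSimpleGroup.eq_bot_or_eq_top_of_normal (center Spor.HN) inferInstance).elim
      (fun e => mem_bot.1 (e ▸ mem_center_iff.2 fun y => (hx y).symm)) fun e => absurd (by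
        have := HnS.inj0 (((map_mul ψ0 _ _).trans (mem_center_iff.1 (e.ge (mem_top (ψ0 (E [5])))) (ψ0 (E [1])))).trans
          (map_mul ψ0 _ _).symm)
        rw [x_z, mul_assoc] at this
        exact mul_eq_right.1 this) c0_ne)
    (fun _ => cen0) (fun _ => cls0) (fun _ h => (cK0 h).elim (fun e => by rw [e, one_mul]) fun e => e ▸ c0_sq)
    (by rw [card_D0, HnE.card_eq]; norm_num) f hf O hO hOf nw k k2 kK kf kO hc hl

end Cfsg.Agent.HN
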