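import Cfsg.Agent.HN.Fr2
import Cfsg.Agent.H46.Standard

/-! A standard subgroup `2.HS` gives a frame. -/

set_option autoImplicit false
set_option maxRecDepth 100000

namespace Cfsg.Agent.HN

open Cfsg.Agent.H17 HnU Function Subgroup PhiAux

variable {G : Type*} [Group G] [Finite G]

theorem exists_Fr (L : Subgroup G) (hL : IsStandardSubgroup L) (h2 : Nat.card (center L) = 2)
    (he : Nonempty (L ⧸ center L ≃* Spor.HS)) : ∃ Φ : D0 → G, Fr Φ := by
  classical
  have hcov : IsNonsplitDoubleCover L Spor.HS := ⟨h2, he, fun M hM => by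
    have h1 : commutator L ≤ M := commutator_le.2 fun a _ b _ => by
      obtain ⟨⟨⟨z, hz⟩, m⟩, rfl⟩ := hM.2 a
      obtain ⟨⟨⟨z', hz'⟩, m'⟩, rfl⟩ := hM.2 b
      have c : ∀ g, Commute z g := fun g => (mem_center_iff.1 hz g).symm
      have c' : ∀ g, Commute z' g := fun g => (mem_center_iff.1 hz' g).symm
      have : z * (m : L) * (z' * (m' : L)) * (z * m)⁻¹ * (z' * m')⁻¹ = m * m' * (m : L)⁻¹ * (m' : L)⁻¹ := by
        have e1 : ∀ x : L, z * m * x * (z * m)⁻¹ = m * x * (m : L)⁻¹ := fun x => by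
          rw [mul_inv_rev, ← mul_assoc, mul_assoc z, mul_assoc z, (c _).eq, mul_inv_cancel_right]
        rw [e1, ← mul_assoc (m : L), ← (c' m).eq, mul_inv_rev, ← mul_assoc, mul_assoc z', mul_assoc z', mul_assoc z',
          (c' _).eq, mul_inv_cancel_right]
      rw [commutatorElement_def]
      exact this ▸ mul_mem (mul_mem (mul_mem m.2 m'.2) (inv_mem m.2)) (inv_mem m'.2)
    rw [Group.isPerfect_def.1 hL.1.1, top_le_iff] at h1
    rw [show center L = ⊥ from disjoint_top.1 (h1 ▸ hM.disjoint), card_bot] at h2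
    exact absurd h2 (by norm_num)⟩
  have : Finite (HnK.K.subgroupOf HnU.H) := Finite.of_equiv _ eK.toEquiv
  obtain ⟨i0⟩ := cover_unique HnK.cover hcov
  let i : K0 ≃* L := eK.trans i0
  let Φ : D0 → G := fun d => if hd : d ∈ K0 then i ⟨d, hd⟩ else 1
  have hΦ : ∀ {d} (hd : d ∈ K0), Φ d = i ⟨d, hd⟩ := fun hd => dif_pos hd
  have hK : ∀ k, Act Φ k 1 → k ∈ centralizer (L : Set G) := fun k a => mem_centralizer_iff.2 fun x hx => by
    obtain ⟨e, he⟩ := i.surjective ⟨x, hx⟩
    have := a.comm e.2 ((one_mul _).trans (mul_one _).symm)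
    rw [hΦ e.2, he] at this
    exact this.symm
  have act : ∀ g ∈ normalizer (L : Set G), ∃ d, Act Φ g d := fun g hg => by
    have key : ∀ d : D0, (∀ x, L.normalizerMonoidHom ⟨g, hg⟩ x = i (MulAut.conjNormal d (i.symm x))) → Act Φ g d :=
      fun d h e he => by
        have := congrArg Subtype.val (h (i ⟨e, he⟩))
        rw [MulEquiv.symm_apply_apply] at this
        rw [hΦ he, hΦ (cjK he d)]
        exact this
    have cj : ∀ m x : L, m * x * m⁻¹ = i (MulAut.conjNormal (i.symm m : D0) (i.symm x)) := fun m x => by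
      rw [← i.symm_apply_eq, map_mul, map_mul, map_inv]; rfl
    by_cases h : ∃ m, ∀ x, L.normalizerMonoidHom ⟨g, hg⟩ x = m * x * m⁻¹
    · exact let ⟨m, h⟩ := h; ⟨_, key _ fun x => (h x).trans (cj m x)⟩
    obtain ⟨m, hm⟩ := two_outer hcov _ (i.symm.trans ((MulAut.conjNormal (E [5])).trans i)) (not_exists.1 h)
      fun m hm => by
        have := cK0 (d := (i.symm m : D0)⁻¹ * E [5]) fun e he => by
          have : E [5] * e * (E [5])⁻¹ = (i.symm m : D0) * e * (i.symm m : D0)⁻¹ := by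
            simpa using congrArg Subtype.val (i.injective ((hm (i ⟨e, he⟩)).trans (cj m _)))
          calc _ = (i.symm m : D0)⁻¹ * (E [5] * e * (E [5])⁻¹) * E [5] := by group
            _ = _ := by rw [this]; group
        exact z_not_mem ((mul_mem_cancel_left (inv_mem (i.symm m).2)).1
          (this.elim (fun e => e ▸ one_mem _) fun e => e ▸ c0_mem))
    refine ⟨E [5] * i.symm m, key _ fun x => (hm x).trans ?_⟩
    rw [cj, map_mul]
    simp
  have mul : ∀ a ∈ K0, ∀ b ∈ K0, Φ (a * b) = Φ a * Φ b := fun a ha b hb => by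
    rw [hΦ ha, hΦ hb, hΦ (mul_mem ha hb), ← coe_mul, ← map_mul]; rfl
  refine ⟨Φ, mul, fun a ha b hb e => ?_, fun g hg => act g ?_, fun g k a b c => ?_⟩
  · rw [hΦ ha, hΦ hb] at e
    exact congrArg Subtype.val (i.injective (Subtype.ext e))
  · refine H46.standard_centralizer_le_normalizer hL ?_ (hK _ fun e he => ?_) (mem_centralizer_singleton_iff.2 hg)
    · rw [hΦ c0_mem, orderOf_coe, i.orderOf_eq, ← orderOf_coe]
      exact orderOf_eq_prime (by rw [pow_two, c0_sq]) c0_ne
    · rw [← mul _ c0_mem _ he, ← c0_comm, mul _ he _ c0_mem, mul_inv_cancel_right, one_mul, inv_one, mul_one]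
  · by_cases hg : g ∈ normalizer (L : Set G)
    · exact .inr (by rw [(act g hg).choose_spec.comm_c, mul_inv_cancel_right])
    · refine .inl (by_contra fun k1 => (hL.2.1.2 g (hL.2.2.2 ▸ hg)).not_two_dvd_nat ?_)
      rw [← show orderOf k = 2 from orderOf_eq_prime (by rw [sq, c]) k1]
      have e1 : k = g * (g⁻¹ * k * g) * g⁻¹ := by group
      exact orderOf_dvd_natCard _ ⟨hK k a, _, hK _ ((Act.tr g).1 (e1 ▸ b)), e1.symm⟩

theorem Fr.zs [IsSimpleGroup G] (hG : ¬ IsMulCommutative G) {Φ : D0 → G} (h : Fr Φ) :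
    ∃ u, IsConj (Φ c0) u ∧ u * Φ c0 = Φ c0 * u ∧ u ≠ Φ c0 := by
  by_contra hn
  have ht : orderOf (Φ c0) = 2 := orderOf_eq_prime (by rw [pow_two, h.c2]) h.c1
  have h0 := H75.centralizer_sup_oddCore_of_isolated ht fun g hg => by
    by_contra hne
    exact hn ⟨_, isConj_iff.2 ⟨g, rfl⟩, hg, hne⟩
  have h1 : oddCore G = ⊥ := by
    rw [oddCore, pPrimeCore, sSup_eq_bot]
    rintro N ⟨hN, hc⟩
    refine hN.eq_bot_or_eq_top.resolve_right fun h => ?_
    rw [h, card_top] at hc
    exact absurd (Nat.eq_one_of_dvd_coprimes hc (ht ▸ orderOf_dvd_natCard _) dvd_rfl) (by decide)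
  rw [h1, sup_bot_eq] at h0
  have h2 : center G = ⊤ := (Normal.eq_bot_or_eq_top inferInstance).resolve_left fun e =>
    h.c1 (mem_bot.1 (e ▸ mem_center_iff.2 fun g => mem_centralizer_singleton_iff.1 (h0 ▸ mem_top g)))
  exact hG ⟨⟨fun a b => mem_center_iff.1 (h2 ▸ mem_top b) a⟩⟩

end Cfsg.Agent.HN
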