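import Cfsg.Agent.HN.Fr1

/-! Standard subgroups `2.HS`: frames, and the types of the conjugates of `c` in `C(c)`. -/

set_option autoImplicit false
set_option maxRecDepth 100000
set_option exponentiation.threshold 400000
set_option Elab.async false

namespace Cfsg.Agent.HN

open Cfsg.Agent.H17 HnU Function Subgroup

variable {G : Type*} [Group G] {Φ Ψ : D0 → G} {g g' t : G} {d d' e : D0}

/-- `g` acts on the frame as `d` -/
def Act (Φ : D0 → G) (g : G) (d : D0) : Prop := ∀ e ∈ K0, g * Φ e * g⁻¹ = Φ (d * e * d⁻¹)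

def cjF (g : G) (Φ : D0 → G) : D0 → G := fun d => g * Φ d * g⁻¹

/-- `Φ` is an isomorphism from `K0` to a standard subgroup -/
structure Fr (Φ : D0 → G) : Prop where
  mul : ∀ a ∈ K0, ∀ b ∈ K0, Φ (a * b) = Φ a * Φ b
  inj : ∀ a ∈ K0, ∀ b ∈ K0, Φ a = Φ b → a = b
  act : ∀ g, g * Φ c0 = Φ c0 * g → ∃ d, Act Φ g d
  ti : ∀ g k, Act Φ k 1 → Act (cjF g Φ) k 1 → k * k = 1 → k = 1 ∨ g * Φ c0 * g⁻¹ = Φ c0

namespace Act

theorem mul (h : Act Φ g d) (h' : Act Φ g' d') : Act Φ (g * g') (d * d') := fun e he => by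
  rw [show d * d' * e * (d * d')⁻¹ = d * (d' * e * d'⁻¹) * d⁻¹ by group, ← h _ (cjK he _), ← h' e he]; group

theorem inv (h : Act Φ g d) : Act Φ g⁻¹ d⁻¹ := fun e he => by
  have := h _ (cjK he d⁻¹)
  rw [show d * (d⁻¹ * e * d⁻¹⁻¹) * d⁻¹ = e by group] at this
  rw [← this]; group

theorem one : Act Φ 1 1 := fun e _ => by simp

theorem pow (h : Act Φ g d) : ∀ n : ℕ, Act Φ (g ^ n) (d ^ n)
  | 0 => by simpa using one
  | n + 1 => by rw [pow_succ, pow_succ]; exact (pow h n).mul h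

theorem c (h : Act Φ g d) : Act Φ g (d * c0) := fun e he => by
  rw [h e he, mul_assoc d c0, ← c0_comm, mul_inv_rev, ← mul_assoc, mul_assoc _ _ c0⁻¹, mul_inv_cancel_right]

theorem or (h : Act Φ g d) (e : d = d' ∨ d = d' * c0) : Act Φ g d' := by
  rcases e with rfl | rfl
  exacts [h, cc d' ▸ h.c]

theorem cj (h : Act Φ g d) (h' : Act Φ g' d') : Act Φ (g * g' * g⁻¹) (d * d' * d⁻¹) := (h.mul h').mul h.inv

theorem cj1 (h : Act Φ g d) (h' : Act Φ g' 1) : Act Φ (g * g' * g⁻¹) 1 := by simpa using h.cj h'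

theorem comm (h : Act Φ g d) (he : e ∈ K0) (c : d * e = e * d) : g * Φ e = Φ e * g := by
  rw [← mul_inv_eq_iff_eq_mul, h e he, c, mul_inv_cancel_right]

theorem comm_c (h : Act Φ g d) : g * Φ c0 = Φ c0 * g := h.comm c0_mem (c0_comm d)

theorem tr (γ : G) : Act (cjF γ Φ) (γ * g * γ⁻¹) d ↔ Act Φ g d :=
  forall₂_congr fun e _ => by rw [cjF, cjF, conj_mul, conj_inv, conj_mul, conj_inj]

end Act

theorem cjF_mul (g g' : G) (Φ : D0 → G) : cjF g (cjF g' Φ) = cjF (g * g') Φ := funext fun d => by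
  simp only [cjF]; group

namespace Fr

variable (h : Fr Φ)
include h

theorem one : Φ 1 = 1 := by simpa using h.mul 1 (one_mem _) 1 (one_mem _)

theorem inv (he : e ∈ K0) : Φ e⁻¹ = (Φ e)⁻¹ :=
  eq_inv_of_mul_eq_one_left (by rw [← h.mul _ (inv_mem he) _ he, inv_mul_cancel, h.one])

theorem pow (he : e ∈ K0) : ∀ n : ℕ, Φ (e ^ n) = Φ e ^ n
  | 0 => by rw [pow_zero, pow_zero, h.one]
  | n + 1 => by rw [pow_succ, pow_succ, h.mul _ (pow_mem he n) _ he, pow he n]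

theorem self (he : e ∈ K0) : Act Φ (Φ e) e := fun a ha => by
  rw [h.mul _ (mul_mem he ha) _ (inv_mem he), h.mul _ he _ ha, h.inv he]

theorem c2 : Φ c0 * Φ c0 = 1 := by rw [← h.mul _ c0_mem _ c0_mem, c0_sq, h.one]

theorem c1 : Φ c0 ≠ 1 := fun e => c0_ne (h.inj _ c0_mem _ (one_mem _) (e.trans h.one.symm))

theorem cK : Act Φ (Φ c0) 1 := (h.self c0_mem).or (.inr (one_mul _).symm)

theorem uniq (a : Act Φ g d) (b : Act Φ g d') : d' = d ∨ d' = d * c0 := by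
  have := cK0 (d := d⁻¹ * d') fun e he => mul_inv_eq_iff_eq_mul.1 (h.inj _ (cjK he _) _ he (by
    simpa using ((a.inv.mul b) e he).symm))
  exact this.imp (fun e => (inv_mul_eq_one.1 e).symm) inv_mul_eq_iff_eq_mul.1

theorem inn (a : Act Φ g d) (b : Act Φ g d') (hd : d ∈ K0) : d' ∈ K0 := by
  rcases h.uniq a b with rfl | rfl
  exacts [hd, mul_mem hd c0_mem]

theorem fix (a : Act Φ g d) (he : e ∈ K0) (c : g * Φ e = Φ e * g) : d * e = e * d :=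
  mul_inv_eq_iff_eq_mul.1 (h.inj _ (cjK he _) _ he (by rw [← a e he, c, mul_inv_cancel_right]))

theorem F (a b c : ℕ) (e : ((a < 30720 ∧ sg a = 0) ∧ b < 30720 ∧ sg b = 0) ∧ mR a b = c := by decide +kernel) :
    Φ (ev a) * Φ (ev b) = Φ (ev c) := by
  rw [← h.mul _ (evK a e.1.1) _ (evK b e.1.2), evM a b c ⟨⟨e.1.1.1, e.1.2.1⟩, e.2⟩]

theorem cj (γ : G) : Fr (cjF γ Φ) where
  mul a ha b hb := by rw [cjF, cjF, cjF, conj_mul, h.mul a ha b hb]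
  inj a ha b hb e := h.inj a ha b hb (conj_inj.1 e)
  act g hg := by
    obtain ⟨g, rfl⟩ : ∃ x, g = γ * x * γ⁻¹ := ⟨γ⁻¹ * g * γ, by group⟩
    rw [cjF, conj_mul, conj_mul, conj_inj] at hg
    exact (h.act g hg).imp fun d => (Act.tr γ).2
  ti g k a b c := by
    obtain ⟨g, rfl⟩ : ∃ x, g = γ * x * γ⁻¹ := ⟨γ⁻¹ * g * γ, by group⟩
    obtain ⟨k, rfl⟩ : ∃ x, k = γ * x * γ⁻¹ := ⟨γ⁻¹ * k * γ, by group⟩
    rw [cjF_mul, inv_mul_cancel_right, ← cjF_mul, Act.tr] at b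
    rw [conj_mul, conj_eq_one_iff] at c
    rw [conj_eq_one_iff, cjF, conj_mul, conj_inv, conj_mul, conj_inj]
    exact h.ti g k ((Act.tr γ).1 a) b c

theorem tw (he : e ∈ K0) (a : Act Φ g (e * d * e⁻¹)) : Act (cjF (Φ e) Φ) g d := by
  have := (Act.tr (Φ e)).2 ((h.self he).inv.cj a)
  simpa [mul_assoc] using this

theorem tw_c (he : e ∈ K0) : cjF (Φ e) Φ c0 = Φ c0 := by
  rw [cjF, (h.self he).comm_c, mul_inv_cancel_right]

theorem nf (c : t * Φ c0 = Φ c0 * t) (t2 : t * t = 1) (t1 : ¬ Act Φ t 1) :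
    ∃ e ∈ K0, ∃ j ∈ [128, 12800, 2, 16], Act Φ t (e * ev j * e⁻¹) := by
  obtain ⟨d, a⟩ := h.act t c
  rcases nfD ((h.uniq Act.one (t2 ▸ a.mul a)).imp_right fun e => e.trans (one_mul _)) with b | ⟨e, he, j, hj, b⟩
  · exact absurd (a.or (b.imp_right fun e => e.trans (one_mul _).symm)) t1
  · exact ⟨e, he, j, hj, a.or b⟩

theorem odd {y : G} {n : ℕ} (hn : Odd n) (y1 : y ^ n = 1) (c : y * Φ c0 = Φ c0 * y) :
    ∃ e ∈ K0, e ^ n = 1 ∧ Act Φ y e ∧ ∀ g f, Act Φ g f → g * y = y * g → e * f = f * e := by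
  obtain ⟨d, a⟩ := h.act y c
  obtain ⟨m, rfl⟩ := hn
  have a1 : d ^ (2 * m + 1) * d ^ (2 * m + 1) = 1 := by
    rcases h.uniq Act.one (y1 ▸ a.pow _) with b | b <;> rw [b]
    exacts [mul_one _, by rw [one_mul, c0_sq]]
  have a2 : Act Φ y (d ^ (m + 1) * d ^ (m + 1)) := by
    have := (a.pow (m + 1)).mul (a.pow (m + 1))
    rwa [← pow_add, show m + 1 + (m + 1) = 2 * m + 1 + 1 by ring, pow_succ y, y1, one_mul] at this
  have a3 : (d ^ (m + 1) * d ^ (m + 1)) ^ (2 * m + 1) = 1 := by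
    rw [← pow_add, ← pow_mul, show (m + 1 + (m + 1)) * (2 * m + 1) = (2 * m + 1 + (2 * m + 1)) * (m + 1) by ring,
      pow_mul, pow_add d, a1, one_pow]
  refine ⟨_, sqK _, a3, a2, fun g f b e => ?_⟩
  have a4 := b.cj a2
  rw [e, mul_inv_cancel_right] at a4
  refine (mul_inv_eq_iff_eq_mul.1 ((h.uniq a2 a4).resolve_right fun e => c0_ne ?_)).symm
  have := congrArg (· ^ (2 * m + 1)) e
  simp only [conj_pow, a3, Commute.mul_pow (c0_comm _)] at this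
  rw [pow_succ, pow_mul, pow_two, c0_sq] at this
  simpa using this.symm

end Fr

/-- two conjugate frames with different commuting centres -/
structure P2 (Φ Ψ : D0 → G) : Prop where
  fr : Fr Φ
  cj : ∃ γ, Ψ = cjF γ Φ
  cm : Ψ c0 * Φ c0 = Φ c0 * Ψ c0
  ne : Ψ c0 ≠ Φ c0

theorem Fr.p2 (h : Fr Φ) (h1 : IsConj (Φ c0) t) (h2 : t * Φ c0 = Φ c0 * t) (h3 : t ≠ Φ c0) :
    ∃ Ψ, P2 Φ Ψ ∧ Ψ c0 = t := by
  obtain ⟨g, rfl⟩ := isConj_iff.1 h1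
  exact ⟨cjF g Φ, ⟨h, ⟨g, rfl⟩, h2, h3⟩, rfl⟩

namespace P2

variable (h : P2 Φ Ψ)
include h

theorem fr' : Fr Ψ := let ⟨γ, e⟩ := h.cj; e ▸ h.fr.cj γ

theorem symm : P2 Ψ Φ := ⟨h.fr', let ⟨γ, e⟩ := h.cj; ⟨γ⁻¹, by
  rw [e, cjF_mul, inv_mul_cancel]; exact funext fun d => by simp [cjF]⟩, h.cm.symm, h.ne.symm⟩

theorem conj (d : D0) : IsConj (Φ d) (Ψ d) := let ⟨γ, e⟩ := h.cj; isConj_iff.2 ⟨γ, by rw [e, cjF]⟩

theorem kk {k : G} (a : Act Φ k 1) (b : Act Ψ k 1) (c : k * k = 1) : k = 1 := by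
  obtain ⟨γ, rfl⟩ := h.cj
  exact (h.fr.ti γ k a b c).resolve_right h.ne

theorem nK : ¬ Act Φ (Ψ c0) 1 := fun a => h.fr'.c1 (h.kk a h.fr'.cK h.fr'.c2)

theorem tw (he : e ∈ K0) : P2 Φ (cjF (Ψ e) Ψ) :=
  ⟨h.fr, let ⟨γ, a⟩ := h.cj; ⟨Ψ e * γ, by rw [← cjF_mul, ← a]⟩, by rw [h.fr'.tw_c he, h.cm],
    by rw [h.fr'.tw_c he]; exact h.ne⟩

theorem nf : ∃ Ψ', P2 Φ Ψ' ∧ Ψ' c0 = Ψ c0 ∧ ∃ j ∈ [128, 12800, 2, 16], Act Ψ' (Φ c0) (ev j) :=
  let ⟨_, he, j, hj, a⟩ := h.fr'.nf h.cm.symm h.fr.c2 h.symm.nK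
  ⟨_, h.tw he, h.fr'.tw_c he, j, hj, h.fr'.tw he a⟩

theorem R (a : Act Φ (Ψ c0) (ev 128)) (k : ℕ) (hk : k < 30720 ∧ sg k = 0 := by decide +kernel) :
    Φ (ev k) * Ψ c0 = Ψ c0 * Φ (ev k) := (a.comm (evK k hk) (ev_w_comm hk.1).symm).symm

theorem two_a (a : Act Φ (Ψ c0) (ev 128)) {j : ℕ} (hj : j ∈ [128, 12800, 2, 16]) (b : Act Ψ (Φ c0) (ev j)) :
    j = 128 := by
  obtain ⟨r, a1⟩ := h.fr'.act _ (h.R a 256)
  obtain ⟨s, a2⟩ := h.fr'.act _ (h.R a 5162)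
  have a3 := (a1.mul a1).mul (a2.mul a2)
  rw [h.fr.F 256 256 768, h.fr.F 5162 5162 5632, h.fr.F 768 5632 12800] at a3
  have a4 := a3.mul a3
  rw [h.fr.F 12800 12800 1, ev_one] at a4
  have a5 := mul_mem (sqK r) (sqK s)
  have a6 := h.fr'.inn a4 b (sqK _)
  simp only [List.mem_cons, List.not_mem_nil, or_false] at hj
  rcases hj with rfl | rfl | rfl | rfl
  · rfl
  · refine absurd ?_ (no4 a5)
    rcases h.fr'.uniq b a4 with e | e <;> rw [e]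
    · rw [evM 12800 12800 1, ev_one]
    · rw [← ev_one, evM 12800 1 12801, evM 12801 12801 1]
  exacts [absurd a6 (evN 2), absurd a6 (evN 16)]

theorem two_b : ¬ Act Φ (Ψ c0) (ev 12800) := fun a => by
  obtain ⟨Ψ, h, e, j, hj, b⟩ := h.nf
  rw [← e] at a
  obtain ⟨r, a1⟩ := h.fr'.act _ (a.comm (evK 12800) rfl).symm
  have a2 := a1.mul a1
  rw [h.fr.F 12800 12800 1, ev_one] at a2
  have a3 := h.fr'.inn a2 b (sqK _)
  simp only [List.mem_cons, List.not_mem_nil, or_false] at hj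
  rcases hj with rfl | rfl | rfl | rfl
  · exact absurd (h.symm.two_a b (by simp) a) (by norm_num)
  · obtain ⟨r, b1⟩ := h.fr.act _ (b.comm (evK 12800) rfl).symm
    have b2 := b1.mul b1
    rw [h.fr'.F 12800 12800 1, ev_one] at b2
    refine not_or.2 (no2B fun y hy y3 c => h.fr.fix b1 hy ?_) (h.fr.uniq a b2)
    obtain ⟨e, -, -, c1, c2⟩ := h.fr'.odd (n := 3) (by decide)
      (by rw [← h.fr.pow hy, y3, h.fr.one]) (a.comm hy c.symm).symm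
    exact (c1.comm (evK 12800) (c2 _ _ b (h.fr.self hy).comm_c.symm)).symm
  exacts [absurd a3 (evN 2), absurd a3 (evN 16)]

theorem sub (a : Act Φ (Ψ c0) (ev 128)) (b : Act Ψ (Φ c0) (ev 128)) :
    ∀ k ∈ [1, 5, 18, 256, 3840], ∃ e ∈ K0, Φ e = Ψ (ev k) := by
  have f := h.fr
  have f' := h.fr'
  obtain ⟨e, he, e5, c1, c2⟩ := f'.odd (n := 5) (by decide) (by rw [← f.pow (evK 256), ev5, f.one]) (h.R a 256)
  by_cases e1 : e = 1
  · let W : Subgroup D0 :=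
      { carrier := {d | d ∈ K0 ∧ Act Ψ (Φ d) 1}
        one_mem' := ⟨one_mem _, f.one ▸ Act.one⟩
        mul_mem' := fun {x y} hx hy => ⟨mul_mem hx.1 hy.1, by simpa [f.mul _ hx.1 _ hy.1] using hx.2.mul hy.2⟩
        inv_mem' := fun {x} hx => ⟨inv_mem hx.1, by simpa [f.inv hx.1] using hx.2.inv⟩ }
    have hW : ∀ k < 30720, sg k = 0 → ∀ d ∈ W, ev k * d * (ev k)⁻¹ ∈ W := fun k hk k0 d hd =>
      ⟨cjK hd.1 _, by
        obtain ⟨r, b1⟩ := f'.act _ (h.R a k ⟨hk, k0⟩)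
        exact f.self (evK k ⟨hk, k0⟩) d hd.1 ▸ b1.cj1 hd.2⟩
    have h256 : ev 256 ∈ W := ⟨evK 256, e1 ▸ c1⟩
    have := (nc5 hW ev5 (fun e => absurd (ev_eq_one (by norm_num) e) (by norm_num)) (ev_w_comm (by norm_num))
      (fun k hk k0 => by
        rw [show ∀ a b : D0, a * b * a⁻¹ * b⁻¹ = a * (b * a⁻¹ * b⁻¹) from fun a b => by group]
        exact mul_mem h256 (hW k hk k0 _ (inv_mem h256))) 1 (by simp)).2
    rw [ev_one] at this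
    exact absurd this h.symm.nK
  · let W : Subgroup D0 :=
      { carrier := {d | d ∈ K0 ∧ ∃ e ∈ K0, Φ e = Ψ d}
        one_mem' := ⟨one_mem _, 1, one_mem _, f.one.trans f'.one.symm⟩
        mul_mem' := fun {x y} ⟨a1, u, hu, a2⟩ ⟨b1, v, hv, b2⟩ =>
          ⟨mul_mem a1 b1, _, mul_mem hu hv, by rw [f.mul _ hu _ hv, f'.mul _ a1 _ b1, a2, b2]⟩
        inv_mem' := fun {x} ⟨a1, u, hu, a2⟩ => ⟨inv_mem a1, _, inv_mem hu, by rw [f.inv hu, f'.inv a1, a2]⟩ }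
    refine fun k hk => (nc5 (W := W) (fun k hk k0 d ⟨hd, u, hu, a2⟩ => ⟨cjK hd _, ?_⟩) e5 e1
      (c2 _ _ b (f.self (evK 256)).comm_c.symm) (fun k hk k0 => ?_) k hk).2
    · obtain ⟨r, b1⟩ := f.act _ (h.symm.R b k ⟨hk, k0⟩)
      exact ⟨_, cjK hu r, by rw [← b1 u hu, a2, f'.self (evK k ⟨hk, k0⟩) d hd]⟩
    · obtain ⟨r, b1⟩ := f.act _ (h.symm.R b k ⟨hk, k0⟩)
      have k1 := evK k ⟨hk, k0⟩
      refine ⟨mul_mem (cjK k1 _) (inv_mem k1), _, mul_mem (evK 256) (cjK (inv_mem (evK 256)) r), ?_⟩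
      rw [f.mul _ (evK 256) _ (cjK (inv_mem (evK 256)) r), ← b1 _ (inv_mem (evK 256)), f.inv (evK 256),
        f'.mul _ (cjK k1 _) _ (inv_mem k1), ← c1 _ k1, f'.inv k1]
      group

theorem pp (a : Act Φ (Ψ c0) (ev 128)) (b : Act Ψ (Φ c0) (ev 128)) :
    Ψ (ev 128) = Φ (ev 128) ∧ Ψ c0 = Φ (ev 129) := by
  have f := h.fr
  have f' := h.fr'
  obtain ⟨u, hu, a1⟩ := h.sub a b 1 (by simp)
  obtain ⟨x, hx, a2⟩ := h.sub a b 18 (by simp)
  rw [ev_one] at a1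
  have a3 : u = ev 128 ∨ u = ev 129 := (f.uniq a (a1 ▸ f.self hu)).imp_right fun e => by
    rw [e, ← ev_one, evM 128 1 129]
  have a4 : ∀ k ∈ [1, 5, 18, 256, 3840], ev k ∈ K0 → ev k ^ 15 = 1 → x * ev k = ev k * x := fun k hk k0 k1 => by
    obtain ⟨e, he, c⟩ := h.symm.sub b a k hk
    have c1 : e ^ 8 * e ^ 8 = e := by
      rw [← pow_add, pow_succ, f'.inj _ (pow_mem he 15) _ (one_mem _) (by
        rw [f'.pow he, c, ← f.pow k0, k1, f.one, f'.one]), one_mul]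
    have c2 := sq18 (Commute.pow_left (f'.fix b he (c ▸ (f.self k0).comm_c.symm)).symm 8)
    rw [c1] at c2
    exact f.fix (f.self hx) k0 (by rw [a2, ← c]; exact ((f'.self he).comm (evK 18) c2).symm)
  obtain ⟨k, hk, rfl⟩ := cenA (f.fix a hx (a2 ▸ (f'.self (evK 18)).comm_c.symm)).symm
    (a4 256 (by simp) (evK 256) (by rw [show 15 = 5 * 3 from rfl, pow_mul, ev5, one_pow]))
    (a4 3840 (by simp) (evK 3840) (by rw [show 15 = 3 * 5 from rfl, pow_mul, ev3, one_pow]))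
  have a5 : Ψ (ev 128) = Φ (ev 128) := by
    rw [← f'.F 18 18 128, ← a2, ← f.mul _ hx _ hx]
    obtain ⟨c, d | d⟩ := (by decide +kernel : ∀ k ∈ [0, 1, 128, 129, 18, 19, 146, 147],
      k < 30720 ∧ (mR k k = 0 ∨ mR k k = 128)) k hk
    · have := f'.F 18 18 128
      rw [← a2, ← f.mul _ hx _ hx, ev_mul c c, d, ev_zero, f.one, ← f'.one] at this
      exact absurd (ev_eq_one (by norm_num) (f'.inj _ (evK 128) _ (one_mem _) this.symm)) (by norm_num)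
    · rw [ev_mul c c, d]
  refine ⟨a5, a3.elim (fun e => ?_) fun e => e ▸ a1.symm⟩
  rw [e, ← a5, ← ev_one] at a1
  exact absurd (ev_inj (by norm_num) (by norm_num) (f'.inj _ (evK 128) _ (evK 1) a1)) (by norm_num)

theorem both (a : Act Φ (Ψ c0) (ev 128)) : ∃ Ψ', P2 Φ Ψ' ∧ Ψ' c0 = Ψ c0 ∧ Act Ψ' (Φ c0) (ev 128) := by
  obtain ⟨Ψ, h, e, j, hj, b⟩ := h.nf
  exact ⟨Ψ, h, e, h.two_a (e ▸ a) hj b ▸ b⟩

theorem cp (a : Act Φ (Ψ c0) (ev 128)) : Ψ c0 = Φ (ev 129) :=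
  let ⟨_, h, e, b⟩ := h.both a; e ▸ (h.pp (e ▸ a) b).2

end P2

theorem Fr.nw (h : Fr Φ) : ¬ IsConj (Φ c0) (Φ (ev 128)) := fun a => by
  have i := fun k (e : Φ (ev 128) = Φ (ev k)) (b : k < 30720 ∧ sg k = 0) =>
    ev_inj (by norm_num) b.1 (h.inj _ (evK 128) _ (evK k b) e)
  obtain ⟨Ψ, p, e⟩ := h.p2 a (h.self (evK 128)).comm_c fun e => absurd (i 1 (ev_one ▸ e) (by decide +kernel)) (by decide)
  exact absurd (i 129 (e ▸ p.cp (e ▸ h.self (evK 128))) (by decide +kernel)) (by decide)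

/-- a conjugate of `c` inducing an inner automorphism is conjugate to `c'` in the frame -/
theorem Fr.inner (h : Fr Φ) (h1 : IsConj (Φ c0) t) (h3 : t ≠ Φ c0) (a : Act Φ t d) (hd : d ∈ K0) :
    ∃ e ∈ K0, Act Φ t (e * ev 128 * e⁻¹) ∧ t = Φ (e * ev 129 * e⁻¹) := by
  obtain ⟨Ψ, p, rfl⟩ := h.p2 h1 a.comm_c h3
  obtain ⟨e, he, j, hj, b⟩ := h.nf p.cm p.fr'.c2 p.nK
  have p' := (p.symm.tw he).symm
  have b' := h.tw he b
  have j0 : ev j ∈ K0 := by simpa [mul_assoc] using cjK (h.inn a b hd) e⁻¹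
  simp only [List.mem_cons, List.not_mem_nil, or_false] at hj
  rcases hj with rfl | rfl | rfl | rfl
  · exact ⟨e, he, b, (p'.cp b').trans (h.self he _ (evK 129))⟩
  exacts [absurd b' p'.two_b, absurd j0 (evN 2), absurd j0 (evN 16)]

/-- some conjugate of `c` induces an inner automorphism -/
theorem Fr.ex (h : Fr Φ) (h1 : IsConj (Φ c0) t) (h2 : t * Φ c0 = Φ c0 * t) (h3 : t ≠ Φ c0) :
    ∃ Φ' Ψ : D0 → G, P2 Φ' Ψ ∧ Act Φ' (Ψ c0) (ev 128) ∧ Act Ψ (Φ' c0) (ev 128) := by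
  have key : ∀ {Φ : D0 → G} {t d}, Fr Φ → IsConj (Φ c0) t → t ≠ Φ c0 → Act Φ t d → d ∈ K0 →
      ∃ Φ' Ψ : D0 → G, P2 Φ' Ψ ∧ Act Φ' (Ψ c0) (ev 128) ∧ Act Ψ (Φ' c0) (ev 128) := fun h h1 h3 a hd => by
    obtain ⟨e, he, b, -⟩ := h.inner h1 h3 a hd
    obtain ⟨Ψ, p, rfl⟩ := h.p2 h1 a.comm_c h3
    obtain ⟨Ψ', p', c, b'⟩ := (p.symm.tw he).symm.both (h.tw he b)
    exact ⟨_, _, p', c ▸ h.tw he b, b'⟩
  obtain ⟨Ψ, p, rfl⟩ := h.p2 h1 h2 h3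
  obtain ⟨Φ, q, -, j, hj, b⟩ := p.symm.nf
  have f := q.fr'
  by_cases j0 : ev j ∈ K0
  · exact key f (q.symm.conj c0) q.symm.ne b j0
  have j1 : (j < 30720 ∧ 36 < 30720) ∧ mR j 36 = mR 36 j ∧
      (j < 30720 ∧ 146 < 30720 ∧ 18 < 30720) ∧ mR j 146 = mR 18 j := by
    simp only [List.mem_cons, List.not_mem_nil, or_false] at hj
    rcases hj with rfl | rfl | rfl | rfl
    exacts [absurd (evK 128) j0, absurd (evK 12800) j0, by decide +kernel, by decide +kernel]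
  obtain ⟨r, a1⟩ := q.fr.act _ (b.comm (evK 36) (evC j 36 ⟨j1.1, j1.2.1⟩)).symm
  have a2 := (a1.mul a1).mul q.fr.cK
  rw [f.F 36 36 128, mul_one] at a2
  refine key q.fr (isConj_iff.2 ⟨Φ (ev 18), ?_⟩) (fun e => ?_) a2 (sqK r)
  · have := b _ (evK 146)
    rw [evJ j 146 18 j1.2.2, mul_inv_eq_iff_eq_mul] at this
    rw [← this, mul_inv_eq_iff_eq_mul, ← f.F 128 18 146, ← mul_assoc, b.comm (evK 128)
      (ev_w_comm j1.1.1)]
  · rw [mul_eq_right, ← f.one] at e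
    exact absurd (ev_eq_one (by norm_num) (f.inj _ (evK 128) _ (one_mem _) e)) (by norm_num)

end Cfsg.Agent.HN
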