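import Cfsg.Agent.HN.St2a

/-! The Harada–Norton group inside a group with a larger centraliser of `c`. -/

set_option autoImplicit false
set_option maxRecDepth 100000
set_option exponentiation.threshold 400000
set_option Elab.async false
set_option synthInstance.maxSize 4000

namespace Cfsg.Agent.HN

open Cfsg.Agent.H58 Cfsg.Agent.H17 Cfsg.Agent.H14 Cfsg.Agent.H88 HnU Function Subgroup

theorem exists_rho2 {G : Type*} [Group G] [Finite G] (ψ : A8 →* G) (hψ : Injective ψ) {S : Set G}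
    (hS : ψ.range = closure S) (h3 : ∀ s ∈ S, s ^ 3 = 1) {c z g : G} (cz : c * z = z * c)
    (hc : ∀ a ∈ ψ.range, a * c = c * a) (hz : ∀ a ∈ ψ.range, a * z = z * a) (c2 : c * c = 1)
    (hC : ∀ s ∈ ψ.range, ∃ a ∈ ψ.range, ∃ v, v * v = 1 ∧ v * a = a * v ∧ g * s * g⁻¹ = v * a)
    (g1 : g * c * g⁻¹ = c * z) (g2 : g * z * g⁻¹ = c) :
    ∃ ρ : G, ρ * c * ρ⁻¹ = z ∧ ρ * z * ρ⁻¹ = c * z ∧ ∀ a ∈ ψ.range, ρ * a = a * ρ := by
  have g3 : g * (c * z) * g⁻¹ = z := by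
    rw [← conj_mul, g1, g2, cz, mul_assoc, c2, mul_one]
  have hn : g ∈ normalizer (ψ.range : Set G) := by
    refine mem_normalizer_fintype fun a ha => ?_
    suffices h : ψ.range ≤ ψ.range.comap (MulAut.conj g).toMonoidHom from h ha
    refine hS.le.trans ((closure_le _).2 fun s hs => ?_)
    have hs' := hS.ge (subset_closure hs)
    obtain ⟨a, ha, v, v2, va, e⟩ := hC s hs'
    have e1 : (v * a) ^ 3 = 1 := by rw [← e, conj_pow, h3 s hs]; group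
    have e2 : v * a = a ^ 4 := by
      calc _ = (v * a) ^ 4 := by rw [pow_succ, e1, one_mul]
        _ = _ := by rw [Commute.mul_pow va, show 4 = 2 * 2 from rfl, pow_mul v, pow_two v, v2, one_pow, one_mul]
    change g * s * g⁻¹ ∈ ψ.range
    rw [e, e2]
    exact pow_mem ha 4
  let ε := MonoidHom.ofInjective hψ
  obtain ⟨s, hs⟩ := (S2119.result 8 (by norm_num) (by norm_num)).2
    (ε.trans ((normalizerMonoidHom ψ.range ⟨g, hn⟩).trans ε.symm))
  have h1 : ∀ a, ψ (MulAut.conjNormal s a) = g * ψ a * g⁻¹ := fun a => by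
    rw [hs]
    exact MonoidHom.apply_ofInjective_symm hψ _
  let b : A8 := ⟨s * s, by simp [Equiv.Perm.mem_alternatingGroup]⟩
  have hb : ψ b ∈ ψ.range := ⟨b, rfl⟩
  refine ⟨(ψ b)⁻¹ * (g * g), ?_, ?_, ?_⟩
  · calc _ = (ψ b)⁻¹ * (g * (g * c * g⁻¹) * g⁻¹) * ψ b := by group
      _ = _ := by rw [g1, g3, mul_assoc, ← hz _ hb, inv_mul_cancel_left]
  · calc _ = (ψ b)⁻¹ * (g * (g * z * g⁻¹) * g⁻¹) * ψ b := by group
      _ = _ := by rw [g2, g1, mul_assoc, mul_assoc, ← hz _ hb, ← mul_assoc c, ← hc _ hb, mul_assoc,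
        inv_mul_cancel_left]
  · rintro _ ⟨a, rfl⟩
    have h2 : ψ b * ψ a * (ψ b)⁻¹ = g * (g * ψ a * g⁻¹) * g⁻¹ := by
      rw [← h1, ← h1, ← map_inv, ← map_mul, ← map_mul]
      exact congrArg ψ (Subtype.ext (by simp [b, mul_assoc]))
    calc _ = (ψ b)⁻¹ * (g * (g * ψ a * g⁻¹) * g⁻¹) * (g * g) := by group
      _ = _ := by rw [← h2]; group

variable {G : Type*} [Group G] {φ : D0 →* G}

theorem St2.rho [Finite G] (h : St2 φ) : ∃ ρ : G, ρ * φ c0 * ρ⁻¹ = φ (E [5]) ∧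
    ρ * φ (E [5]) * ρ⁻¹ = φ c0 * φ (E [5]) ∧ ∀ a ∈ A0, ρ * φ a = φ a * ρ := by
  obtain ⟨ι, i1, i2⟩ := exists_iota
  have i3 : (φ.comp ι).range = A0.map φ := by rw [MonoidHom.range_comp, i2]
  obtain ⟨g, e⟩ := isConj_iff.1 h.a4.symm
  obtain ⟨_, ⟨g1, rfl⟩, e2⟩ := h.pair3 (x := g * φ c0 * g⁻¹) (by nth_rw 2 3 [← e]; rw [conj_mul, conj_mul, F_c])
    ((conj_al _).2 (IsConj.refl _))
    (by nth_rw 2 [← e]; rw [conj_mul, conj_al, ← ev_one, F_mul' φ 512 1 513, ev_one, al_ty φ 513 4]; exact h.a4)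
  replace e2 := e2.resolve_right fun a => h.n5 (by rw [a, conj_al, conj_al])
  rw [ev_z] at e e2
  have g1 : φ (E [1]) * φ g1 * g * φ c0 * (φ (E [1]) * φ g1 * g)⁻¹ = φ c0 * φ (E [5]) ∧
      φ (E [1]) * φ g1 * g * φ (E [5]) * (φ (E [1]) * φ g1 * g)⁻¹ = φ c0 := by
    constructor
    · calc _ = φ (E [1]) * (φ g1 * (g * φ c0 * g⁻¹) * (φ g1)⁻¹) * (φ (E [1]))⁻¹ := by group
        _ = _ := by rw [← e2, ← map_mul, x_z, map_mul, mul_inv_cancel_right, map_mul]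
    · calc _ = φ (E [1]) * (φ g1 * (g * φ (E [5]) * g⁻¹) * (φ g1)⁻¹) * (φ (E [1]))⁻¹ := by group
        _ = _ := by rw [e, F_c, mul_inv_cancel_right, F_c, mul_inv_cancel_right]
  generalize φ (E [1]) * φ _ * g = g at g1
  obtain ⟨g1, g2⟩ := g1
  have hz : ∀ a ∈ (φ.comp ι).range, a * φ (E [5]) = φ (E [5]) * a := by
    rw [i3]; rintro _ ⟨a, ha, rfl⟩; rw [← map_mul, A0_z ha, map_mul]
  have hB : ∀ a, ∃ d, φ d = g * φ (ι a) * g⁻¹ := by
    obtain ⟨x, hx⟩ : ∃ x, ι x = ev 129 := i2.ge (mem_A0 _ [5, 9, 7, 6] (by decide +kernel))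
    have := alternatingGroup.isSimpleGroup (α := Fin 8) (by simp)
    have b1 : normalClosure {x} = ⊤ := (Normal.eq_bot_or_eq_top inferInstance).resolve_left fun e =>
      absurd (ev_eq_one (by norm_num) (by
        rw [← hx, mem_bot.1 (e.le (subset_normalClosure rfl)), map_one] : ev 129 = 1)) (by norm_num)
    have b2 : normalClosure {x} ≤ φ.range.comap ((MulAut.conj g).toMonoidHom.comp (φ.comp ι)) :=
      (closure_le _).2 fun y hy => by
        obtain ⟨_, rfl, c⟩ := Group.mem_conjugatesOfSet_iff.1 hy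
        refine h.al (g * φ (ι y) * g⁻¹) (by rw [← g2, conj_mul, conj_mul, hz (φ (ι y)) ⟨y, rfl⟩]) ((conj_al g).2 ?_)
        exact h.cp.trans (hx ▸ (φ.comp ι).map_isConj c)
    exact fun a => b2 (b1.ge (mem_top a))
  obtain ⟨ρ, r1, r2, r3⟩ := exists_rho2 (φ.comp ι) (h.inj.comp i1) (i3.trans (MonoidHom.map_closure _ _))
    (by rintro _ ⟨_, ⟨i, -, rfl⟩, rfl⟩; rw [← map_pow, xa_cube, map_one]) (F_c φ _).symm
    (by rintro _ ⟨a, rfl⟩; exact F_c φ _) hz (sq_of_al (IsConj.refl _))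
    (by
      rintro _ ⟨s, rfl⟩
      obtain ⟨d, k⟩ := hB s
      have k2 : φ d * (φ c0 * φ (E [5])) = φ c0 * φ (E [5]) * φ d := by
        rw [k, ← g1, conj_mul, conj_mul, F_c]
      rw [← mul_assoc, F_c, mul_assoc, mul_assoc, mul_right_inj] at k2
      obtain ⟨a, ha, b⟩ := cent_z (d := d) (h.inj (by rw [map_mul, map_mul, k2]))
      refine ⟨φ a, i3.ge ⟨a, ha, rfl⟩, ?_⟩
      suffices ∃ v, v * v = 1 ∧ v * a = a * v ∧ d = v * a from
        let ⟨v, v1, v2, v3⟩ := this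
        ⟨φ v, by rw [← map_mul, v1, map_one], by rw [← map_mul, v2, map_mul], k.symm.trans (by rw [v3, map_mul])⟩
      rcases b with b | b | b | b
      · exact ⟨1, one_mul _, by rw [one_mul, mul_one], by rw [one_mul, b]⟩
      · exact ⟨_, c0_sq, (c0_comm a).symm, b⟩
      · exact ⟨_, z_sq, (A0_z ha).symm, b⟩
      · exact ⟨_, by rw [mul_assoc, ← mul_assoc (E [5]), c0_comm, mul_assoc, z_sq, mul_one, c0_sq],
          by rw [mul_assoc, ← A0_z ha, ← mul_assoc, ← c0_comm, mul_assoc], b⟩) g1 g2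
  exact ⟨ρ, r1, r2, fun a ha => r3 _ (i3.ge ⟨a, ha, rfl⟩)⟩

theorem St2.rh [Finite G] (h : St2 φ) : ∃ ρ, Rh φ ρ := by
  obtain ⟨ρ, r1, r2, r3⟩ := h.rho
  have a1 : (φ (E [14, 5, 12, 3]))⁻¹ * φ (E [5]) * φ (E [14, 5, 12, 3]) = φ (ev 2) := by
    rw [mul_assoc, inv_mul_eq_iff_eq_mul, ← map_mul, ← map_mul, ev, ← E_append, ← E_append]
    exact congrArg φ (E_eq _ _ (by decide +kernel))
  have a2 : ∀ e, E [14, 5, 12, 3] * ev e * (E [14, 5, 12, 3])⁻¹ ∈ A0 → (φ (E [14, 5, 12, 3]))⁻¹ * ρ *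
      φ (E [14, 5, 12, 3]) * φ (ev e) * ((φ (E [14, 5, 12, 3]))⁻¹ * ρ * φ (E [14, 5, 12, 3]))⁻¹ = φ (ev e) := by
    intro e he
    have := r3 _ he
    rw [map_mul, map_mul, map_inv] at this
    generalize φ (E [14, 5, 12, 3]) = g at this
    calc _ = g⁻¹ * (ρ * (g * φ (ev e) * g⁻¹)) * ρ⁻¹ * g := by group
      _ = _ := by rw [this]; group
  have a3 : ∀ e u, eqW ([14, 5, 12, 3] ++ evW e ++ [4, 13, 5, 14]) (aW u) = true →
      E [14, 5, 12, 3] * ev e * (E [14, 5, 12, 3])⁻¹ ∈ A0 := fun e u a => by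
    rw [E_inv _ [4, 13, 5, 14], ev, ← E_append, ← E_append]; exact mem_A0 _ u a
  have a4 := a2 4 (a3 4 [1, 3, 5, 9, 7, 3, 5, 12, 1] (by decide +kernel))
  have a5 := a2 32 (a3 32 [1, 3, 9, 7, 1, 3, 5, 11] (by decide +kernel))
  refine ⟨_, ?_, ?_, List.forall_mem_cons.2 ⟨a4, List.forall_mem_cons.2
    ⟨a2 8 (a3 8 [1, 3, 5, 9, 11, 3, 5, 8, 1] (by decide +kernel)), List.forall_mem_cons.2 ⟨a5,
    List.forall_mem_cons.2 ⟨a2 64 (a3 64 [1, 3, 9, 11, 1, 3, 5, 7] (by decide +kernel)),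
    List.forall_mem_singleton.2 ?_⟩⟩⟩⟩⟩
  · rw [ev_one, mul_assoc _ _ (φ c0), F_c, ← a1, ← r1]; group
  · rw [← F_mul' φ 1 2 3, ev_one, ← a1, ← mul_assoc (φ c0), ← mul_assoc (φ c0), ← map_inv, ← F_c, map_inv,
      mul_assoc _ (φ c0), ← r2]
    group
  · rw [← F_mul' φ 36 36 128, ← F_mul' φ 4 32 36, ← conj_mul, ← conj_mul, a4, a5]

theorem St2.lab22 [Finite G] (h : St2 φ) {k : ℕ} (hk : k < 30720) : IsConj (φ c0) (φ (ev k)) ↔ lb 22 k := by
  refine h.lab (by decide) (fun j hj => ?_) hk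
  interval_cases j
  exacts [iff_of_false (by rw [show tr 0 = 0 from rfl, ev_zero, map_one]; exact h.n1) (by decide),
    iff_of_true (by rw [show tr 1 = 1 from rfl, ev_one]) (by decide), iff_of_true h.cp (by decide),
    iff_of_false h.nw (by decide), iff_of_true h.a4 (by decide), iff_of_false h.n5 (by decide)]

theorem St2.img [Finite G] (h : St2 φ) {y : G} (y2 : y * y = 1) (h1 : y * φ (ev 1) * y⁻¹ = φ (ev 129))
    (h2 : y * φ (ev 128) * y⁻¹ = φ (ev 128)) {k : ℕ} (hk : k = 16 ∨ k = 256 ∨ k = 512) :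
    ∃ l < 30720, y * φ (ev k) * y⁻¹ = φ (ev l) := by
  have h3 : y * φ (ev 129) * y⁻¹ = φ c0 := by
    rw [← h1, ev_one]
    calc _ = (y * y) * φ c0 * (y * y)⁻¹ := by group
      _ = _ := by rw [y2]; group
  have h4 : ∀ k, k < 30720 ∧ lb 22 k → y * φ (ev k) * y⁻¹ ∈ φ.range := fun k hk => h.al _
    (by rw [← h3, conj_mul, conj_mul, ← map_mul, ev_cp_comm hk.1, map_mul]) ((conj_al y).2 ((h.lab22 hk.1).2 hk.2))
  have h5 : ∀ a b c, ((a < 30720 ∧ lb 22 a) ∧ b < 30720 ∧ lb 22 b) ∧ mR a b = c → y * φ (ev c) * y⁻¹ ∈ φ.range :=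
    fun a b c e => by
      rw [← F_mul' φ a b c ⟨⟨e.1.1.1, e.1.2.1⟩, e.2⟩, ← conj_mul]
      exact mul_mem (h4 a e.1.1) (h4 b e.1.2)
  obtain ⟨l, hl, e⟩ := h.alW (g := y * φ (ev k) * y⁻¹) (by
      rcases hk with rfl | rfl | rfl
      · exact h5 12 28 16 (by decide +kernel)
      · rw [← F_mul' φ 17408 20992 256, ← conj_mul]
        exact φ.range.mul_mem (h5 512 8704 _ (by decide +kernel)) (h5 12288 23552 _ (by decide +kernel))
      · exact h4 512 (by decide +kernel))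
    (by rw [← h2, conj_mul, conj_mul, ← map_mul, ev_w_comm (by omega), map_mul])
  exact ⟨l, hl, e.symm⟩

theorem St2.rel (h : St2 φ) {y : G} {a b c d a' b' c' d' : ℕ} (h1 : y * φ (ev a) * y⁻¹ = φ (ev a'))
    (h2 : y * φ (ev b) * y⁻¹ = φ (ev b')) (h3 : y * φ (ev c) * y⁻¹ = φ (ev c')) (h4 : y * φ (ev d) * y⁻¹ = φ (ev d'))
    (l1 : a' < 30720) (l2 : b' < 30720) (l3 : c' < 30720) (l4 : d' < 30720)
    (e : ((a < 30720 ∧ b < 30720) ∧ c < 30720 ∧ d < 30720) ∧ mR a b = mR c d := by decide +kernel) :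
    mR a' b' = mR c' d' :=
  h.F_inj (mR_lt l1 l2) (mR_lt l3 l4) (by
    rw [← F_mul φ l1 l2, ← F_mul φ l3 l4, ← h1, ← h2, ← h3, ← h4, conj_mul, conj_mul, F_mul φ e.1.1.1 e.1.1.2,
      F_mul φ e.1.2.1 e.1.2.2, e.2])

theorem St2.theta [Finite G] (h : St2 φ) {ρ : G} (r : Rh φ ρ) : ∃ b, (b = 16 ∨ b = 17) ∧
    ∀ k < 30720, ρ * φ (ev b) * ρ⁻¹ * φ (ev k) * (ρ * φ (ev b) * ρ⁻¹)⁻¹ = φ (ev (TH k)) := by
  obtain ⟨b, hb, d, hd, e0⟩ : ∃ b, (b = 16 ∨ b = 17) ∧ ∃ d < 2,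
      ρ * φ (ev b) * ρ⁻¹ * φ (ev 16) * (ρ * φ (ev b) * ρ⁻¹)⁻¹ = φ (ev (thK d 16)) := by
    obtain ⟨y2, y1⟩ := r.base (.inl rfl) rfl
    simp only [List.forall_mem_cons] at y1
    obtain ⟨a1, a2, a3, a4, a5, a6, a7, -⟩ := y1
    obtain ⟨l, hl, e⟩ := h.img y2 a1 a7 (k := 16) (by norm_num)
    have a0 : ρ * φ (ev 16) * ρ⁻¹ * φ (ev 0) * (ρ * φ (ev 16) * ρ⁻¹)⁻¹ = φ (ev 0) := by
      rw [ev_zero, map_one, mul_one, mul_inv_cancel]
    have c2 : ρ * φ (ev 17) * ρ⁻¹ * φ (ev 16) * (ρ * φ (ev 17) * ρ⁻¹)⁻¹ = φ (ev 2) * φ (ev l) * (φ (ev 2))⁻¹ := by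
      rw [← F_mul' φ 1 16 17, ← conj_mul, r.r1, ← e]; group
    rcases thC0 l hl (h.rel e a3 a3 e hl (by decide) (by decide) hl) (h.rel e a4 a4 e hl (by decide) (by decide) hl)
      (h.rel e a5 a5 e hl (by decide) (by decide) hl) (h.rel e a6 a6 e hl (by decide) (by decide) hl)
      (h.rel e a2 (cj_mul 2 128 _ _ 130 130 a2 a7) e hl (by decide) (by decide) hl)
      (h.rel e e a0 a0 hl hl (by decide) (by decide)) with rfl | rfl | rfl | rfl
    · exact ⟨16, .inl rfl, 0, by norm_num, e⟩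
    · exact ⟨16, .inl rfl, 1, by norm_num, e⟩
    · exact ⟨17, .inr rfl, 0, by norm_num, by
        rw [c2, mul_inv_eq_iff_eq_mul, F_mul' φ 2 144 146, F_mul' φ _ 2 146]⟩
    · exact ⟨17, .inr rfl, 1, by norm_num, by
        rw [c2, mul_inv_eq_iff_eq_mul, F_mul' φ 2 145 147, F_mul' φ _ 2 147]⟩
  refine ⟨b, hb, ?_⟩
  obtain ⟨y2, y1⟩ := r.base hb rfl
  generalize ρ * φ (ev b) * ρ⁻¹ = y at e0 y1 y2
  have hP := ext_P hd (y := y) (φ := φ) fun e he => by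
    rcases (by decide : ∀ d < 2, ∀ e ∈ [1, 2, 4, 8, 16, 32, 64, 128],
      e = 16 ∨ (e ∈ [1, 2, 4, 8, 32, 64, 128] ∧ thK d e = thP e)) d hd e he with rfl | ⟨a, c⟩
    exacts [e0, c ▸ y1 e a]
  have key : ∀ s, s = 1 ∨ s = 2 → ∃ l < 30720, y * φ (ev (256 * s)) * y⁻¹ = φ (ev l) ∧ thQ d s l := fun s hs => by
    obtain ⟨l, hl, e⟩ := h.img y2 (y1 1 (by simp)) (y1 128 (by simp)) (k := 256 * s) (by omega)
    refine ⟨l, hl, e, fun p hp => ?_⟩
    have hp' : p < 256 := by revert p; decide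
    exact h.rel (hP p hp') e e (hP _ (act_lt s p)) ((thK_lt d hd p hp').trans (by norm_num)) hl hl
      ((thK_lt d hd _ (act_lt s p)).trans (by norm_num)) (by revert p; rcases hs with rfl | rfl <;> decide +kernel)
  obtain ⟨l, hl, e1, e2⟩ := key 1 (.inl rfl)
  have h2 := mR_lt hl hl
  obtain ⟨rfl, rfl⟩ := thC1 d hd l hl e2 (h.F_inj (mR_lt (mR_lt h2 h2) hl) (by norm_num) (by
    rw [← F_mul φ (mR_lt h2 h2) hl, ← F_mul φ h2 h2, ← F_mul φ hl hl, ← e1, conj_mul, conj_mul, conj_mul, F_mul φ,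
      F_mul φ (by decide +kernel) (by decide +kernel), F_mul' φ _ _ 0, ev_zero, map_one, mul_one, mul_inv_cancel]))
  obtain ⟨l, hl, e3, e4⟩ := key 2 (.inr rfl)
  rcases thC2 l hl e4 ((h.lab22 hl).1 (by rw [← e3, conj_al]; exact h.a4)) with rfl | rfl
  · exact fun k hk => ext_R hP e1 e3 hk
  · refine absurd ((h.lab22 (k := mR 657 16) (by decide +kernel)).1 ?_) (by decide +kernel)
    rw [← cj_mul 512 16 657 16 528 _ e3 e0, conj_al, h.lab22 (by norm_num)]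
    decide +kernel

theorem St2.mu [Finite G] (h : St2 φ) {n : G} (hn : ∀ k < 30720, n * φ (ev k) * n⁻¹ = φ (ev (TH k))) :
    n * φ (E rhW) * n⁻¹ ∈ centralizer {φ (E tauW)} := by
  obtain ⟨ρ, r1, r2, r3⟩ := h.rho
  have a0 : ∀ k l k' l' : ℕ, E rhW * ev k * (E rhW)⁻¹ = ev l → (k < 30720 ∧ l < 30720) ∧ TH k = k' ∧ TH l = l' →
      n * φ (E rhW) * n⁻¹ * φ (ev k') * (n * φ (E rhW) * n⁻¹)⁻¹ = φ (ev l') := by
    rintro k l _ _ e ⟨⟨a, b⟩, rfl, rfl⟩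
    rw [← hn k a, ← hn l b, ← e, map_mul, map_mul, map_inv]; group
  have a1 := a0 129 528 1 512 (E_cj _ _ _) (by decide +kernel)
  have a2 := a0 528 657 512 513 (E_cj _ _ _) (by decide +kernel)
  have a3 := a0 1 1 129 129 (E_cj _ _ _) (by decide +kernel)
  have a4 := a0 8077 8077 7951 7951 (E_cj _ _ _) (by decide +kernel)
  have a5 := a0 9581 9581 9711 9711 (E_cj _ _ _) (by decide +kernel)
  have a6 : (n * φ (E rhW) * n⁻¹) ^ 3 = 1 := by
    rw [conj_pow, ← map_pow, pow_succ, pow_two, ← E_append, ← E_append, E_eq _ [] (by decide +kernel), E_nil,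
      map_one, mul_one, mul_inv_cancel]
  generalize n * φ (E rhW) * n⁻¹ = μ at a1 a2 a3 a4 a5 a6
  have b0 : ∀ a b : G, μ * a * μ⁻¹ = b → ρ * a * ρ⁻¹ = b → ρ⁻¹ * μ * a = a * (ρ⁻¹ * μ) := fun a b e1 e2 => by
    calc _ = ρ⁻¹ * (μ * a * μ⁻¹) * μ := by group
      _ = _ := by rw [e1, ← e2]; group
  have b1 : ∀ k u, eqW (evW k) (aW u) = true → ρ * φ (ev k) * ρ⁻¹ = φ (ev k) := fun k u e => by
    rw [ev, r3 _ (mem_A0 _ u e), mul_inv_cancel_right]
  rw [← ev_one, ← ev_z] at r1 r2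
  rw [F_mul' φ 1 512 513] at r2
  have b2 := b0 _ _ a1 r1
  have b5 := b1 129 [5, 9, 7, 6] (by decide +kernel)
  have b3 := b0 _ _ a3 b5
  obtain ⟨k, hk, κ, hκ, e⟩ := h.cenW (g := ρ⁻¹ * μ) (ev_one ▸ b2)
    (by rw [← F_mul' φ 1 129 128]; exact (Commute.mul_right b2 b3).eq)
  have c0' : ∀ m, m < 30720 ∧ sg m = 0 → ρ⁻¹ * μ * φ (ev m) = φ (ev m) * (ρ⁻¹ * μ) → mR k m = mR m k := fun m hm a => by
    rw [e, mul_assoc, hκ.k0 _ (evK m hm), ← mul_assoc, ← mul_assoc, mul_left_inj] at a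
    exact (h.F_comm hk hm.1).1 a
  have c4 := c0' _ (by decide +kernel) (b0 _ _ a4 (b1 _ [3, 9] (by decide +kernel)))
  have c5 := c0' _ (by decide +kernel) (b0 _ _ a5 (b1 _ [1, 9] (by decide +kernel)))
  rw [inv_mul_eq_iff_eq_mul] at e
  have c1 : ∀ k < 30720, mR k 7951 = mR 7951 k → mR k 9711 = mR 9711 k →
      (∃ v ∈ [0, 1, 512, 513], k = v ∨ k = mR v 129) ∨ (mR k 528 = mR 657 k ∧ mR k 657 = mR 528 k) :=
    allD (by decide +kernel)
  have hτ : E tauW ∈ A0 := mem_A0 _ [6, 11, 8, 9] (by decide +kernel)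
  rcases c1 k hk c4 c5 with ⟨v, hv, b4⟩ | ⟨d1, d2⟩
  · have v0 : v < 30720 ∧ mR v 129 = mR 129 v :=
      (by decide +kernel : ∀ v ∈ [0, 1, 512, 513], v < 30720 ∧ mR v 129 = mR 129 v) v hv
    have c2 : ρ * φ (ev v) * κ ∈ centralizer {φ (E tauW)} := by
      refine mul_mem (mul_mem (mem_centralizer_singleton_iff.2 (r3 _ hτ)) ?_) (mem_centralizer_singleton_iff.2
        (hκ.k0 _ ((E_mem_K0 _ (by decide +kernel)).2 (by decide +kernel))))
      have d1 : φ (ev 1) ∈ centralizer {φ (E tauW)} := mem_centralizer_singleton_iff.2 (ev_one ▸ (F_c φ _).symm)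
      have d2 : φ (ev 512) ∈ centralizer {φ (E tauW)} :=
        mem_centralizer_singleton_iff.2 (by rw [ev_z, ← map_mul, ← A0_z hτ, map_mul])
      simp only [List.mem_cons, List.not_mem_nil, or_false] at hv
      rcases hv with rfl | rfl | rfl | rfl
      exacts [by rw [ev_zero, map_one]; exact one_mem _, d1, d2, F_mul' φ 1 512 513 ▸ mul_mem d1 d2]
    rcases b4 with rfl | rfl
    · rwa [e, ← mul_assoc]
    · rw [← F_mul φ v0.1, mul_assoc, ← hκ.k0 _ (evK 129), ← mul_assoc, ← mul_assoc] at e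
      have c3 : Commute (ρ * φ (ev v) * κ) (φ (ev 129)) := (Commute.mul_left (mul_inv_eq_iff_eq_mul.1 b5)
        ((h.F_comm v0.1 (by norm_num)).2 v0.2)).mul_left (hκ.k0 _ (evK 129))
      rw [e, c3.mul_pow, pow_succ (φ _), pow_two (φ _), F_mul' φ 129 129 0, ev_zero, map_one, one_mul] at a6
      exact e ▸ mul_mem c2 (eq_inv_of_mul_eq_one_right a6 ▸ inv_mem (pow_mem c2 3))
  · have d3 : ∀ a b, (a < 30720 ∧ sg a = 0) ∧ b < 30720 → mR k a = mR b k → ρ * φ (ev b) * ρ⁻¹ = φ (ev b) →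
        μ * φ (ev a) * μ⁻¹ = φ (ev b) := fun a b x y z => by
      rw [mul_inv_eq_iff_eq_mul, e, mul_assoc, mul_assoc, hκ.k0 _ (evK a x.1), ← mul_assoc (φ _), F_mul φ hk x.1.1, y,
        ← F_mul φ x.2 hk, mul_assoc, ← mul_assoc, mul_inv_eq_iff_eq_mul.1 z, mul_assoc]
    have d4 := d3 528 657 (by decide +kernel) d1 (b1 _ [5, 7, 9, 6] (by decide +kernel))
    have d5 := d3 657 528 (by decide +kernel) d2 (b1 _ [7, 5, 9, 8] (by decide +kernel))
    refine absurd (h.F_inj (a := 528) (b := 657) (by norm_num) (by norm_num) ?_) (by norm_num)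
    calc _ = μ ^ 3 * φ (ev 528) * (μ ^ 3)⁻¹ := by rw [a6, one_mul, inv_one, mul_one]
      _ = μ * (μ * (μ * φ (ev 528) * μ⁻¹) * μ⁻¹) * μ⁻¹ := by rw [pow_succ, pow_two]; group
      _ = _ := by rw [d4, d5, d4]

theorem St2.hom [Finite G] (h : St2 φ) {n : G} (n2 : n * n = 1)
    (hn : ∀ k < 30720, n * φ (ev k) * n⁻¹ = φ (ev (TH k))) :
    ∃ f : Spor.HN →* G, (∀ d, f (ψ0 d) = φ d) ∧ f (HnP.el 6) = n * φ (E tauW) * n⁻¹ := by
  let W := (centralizer {φ (E tauW)}).comap ((MulAut.conj n).toMonoidHom.comp φ)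
  have hW : ∀ u, n * φ (E (bW u)) * n⁻¹ * φ (E tauW) = φ (E tauW) * (n * φ (E (bW u)) * n⁻¹) := fun u =>
    mem_centralizer_singleton_iff.1 (bW_mem (W := W)
      (mem_centralizer_singleton_iff.2 (by
        change n * _ * n⁻¹ * _ = _ * (n * _ * n⁻¹)
        rw [hn _ (by norm_num), show TH 129 = 1 by decide +kernel, ev_one, F_c]))
      (mem_centralizer_singleton_iff.2 (by
        change n * _ * n⁻¹ * _ = _ * (n * _ * n⁻¹)
        rw [hn _ (by norm_num), show TH 768 = 947 by decide +kernel, ← map_mul, ← map_mul]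
        exact congrArg φ (E_comm _ _))) (h.mu hn) u)
  have n1 : n⁻¹ = n := inv_eq_of_mul_eq_one_right n2
  have n3 : ∀ a, n * (n * a * n⁻¹) * n⁻¹ = a := fun a => by
    rw [n1, ← mul_assoc, ← mul_assoc, n2, one_mul, mul_assoc, n2, mul_one]
  have t5 : φ (E tauW) ^ 5 = 1 := by
    rw [← map_pow, show E tauW ^ 5 = E (tauW ++ tauW ++ tauW ++ tauW ++ tauW) by simp only [E_append, pow_succ, pow_zero,
      one_mul], E_eq _ [] (by decide +kernel), E_nil, map_one]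
  let e : ℕ → G := fun x => [1, φ (E [1]), φ (E [2]), φ (E [3]), φ (E [4]), φ (E [5]), n * φ (E tauW) * n⁻¹,
    (n * φ (E tauW) * n⁻¹)⁻¹].getD x 1
  have e1 : ∀ r : List ℕ, (∀ x ∈ r, x ∈ [1, 2, 3, 4, 5]) → (r.map e).prod = φ (E r) := by
    intro r
    induction r with
    | nil => exact fun _ => φ.map_one.symm
    | cons x r ih =>
      intro hr
      rw [List.map_cons, List.prod_cons, ih fun y hy => hr y (List.mem_cons_of_mem _ hy), E_cons, map_mul]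
      have := hr x List.mem_cons_self
      simp only [List.mem_cons, List.not_mem_nil, or_false] at this
      rcases this with rfl | rfl | rfl | rfl | rfl <;> rfl
  have i2 : φ (E [2]) = (φ (E [1]))⁻¹ := by rw [← map_inv, E_inv _ [2]]
  have i4 : φ (E [4]) = (φ (E [3]))⁻¹ := by rw [← map_inv, E_inv _ [4]]
  have i5 : φ (E [5]) = (φ (E [5]))⁻¹ := by rw [← map_inv, E_inv _ [5]]
  have e8 : ∀ x, 8 ≤ x → e x = 1 := fun x hx => List.getD_eq_default _ _ hx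
  have R : RuleOK e HnP.rels0 HnP.iv0 := by
    refine ⟨rfl, fun x hx => ?_, fun r hr => ?_, by decide⟩
    · rcases (by decide : ∀ x < 64, x < 8 ∨ (8 ≤ x ∧ ivf HnP.iv0 x = 0)) x hx with a | ⟨a, b⟩
      · interval_cases x
        exacts [inv_one.symm, i2, by rw [eq_comm, inv_eq_iff_eq_inv]; exact i2, i4,
          by rw [eq_comm, inv_eq_iff_eq_inv]; exact i4, i5, rfl, (inv_inv _).symm]
      · rw [b, e8 x a, inv_one]; rfl
    · have c1 : allA (HnP.rels0.take 10) (fun r => eqW r []) = true := by decide +kernel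
      rcases (by decide : ∀ r ∈ HnP.rels0, (r ∈ HnP.rels0.take 10 ∧ ∀ x ∈ r, x ∈ [1, 2, 3, 4, 5]) ∨
        r = [6, 6, 6, 6, 6] ∨ r = [2, 6, 1, 6, 6] ∨ r = [7, 4, 6, 3] ∨ r = [5, 6, 5, 6, 5, 6]) r hr with
        ⟨a, b⟩ | rfl | rfl | rfl | rfl
      · rw [e1 r b, E_eq _ _ (allA_spec c1 r a), E_nil, map_one]
      · calc _ = n * φ (E tauW) ^ 5 * n⁻¹ := by
              rw [← conj_pow]; simp only [e, pow_succ', pow_zero]; rfl
          _ = _ := by rw [t5, mul_one, mul_inv_cancel]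
      · have a1 := hW [1, 2, 2, 1, 2, 1, 2, 2, 1]
        have a2 : φ (E [1]) = n * (φ (ev 18) * (n * φ (E (bW [1, 2, 2, 1, 2, 1, 2, 2, 1])) * n⁻¹)) * n⁻¹ := by
          rw [← show TH 18 = 18 by decide +kernel, ← hn _ (by norm_num), conj_mul, n3, ← map_mul, ev, ← E_append]
          exact congrArg φ (E_eq _ _ (by decide +kernel))
        have a3 : φ (E tauW) * φ (ev 18) = φ (ev 18) * φ (E tauW) ^ 3 := by
          rw [← map_pow, ← map_mul, ← map_mul, pow_succ, pow_two, ev, ← E_append, ← E_append, ← E_append, ← E_append]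
          exact congrArg φ (E_eq _ _ (by decide +kernel))
        change φ (E [2]) * (n * φ (E tauW) * n⁻¹ * (φ (E [1]) * (n * φ (E tauW) * n⁻¹ *
          (n * φ (E tauW) * n⁻¹ * 1)))) = 1
        rw [i2, a2]
        generalize n * φ (E (bW _)) * n⁻¹ = ω at a1
        calc _ = n * ω⁻¹ * (φ (ev 18))⁻¹ * (φ (E tauW) * φ (ev 18)) * ω * φ (E tauW) ^ 2 * n⁻¹ := by rw [pow_two]; group
          _ = n * ω⁻¹ * (φ (E tauW) ^ 3 * ω) * φ (E tauW) ^ 2 * n⁻¹ := by rw [a3]; group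
          _ = n * φ (E tauW) ^ 5 * n⁻¹ := by rw [← (Commute.pow_right a1 3).eq]; group
          _ = _ := by rw [t5, mul_one, mul_inv_cancel]
      · have a1 := hW [2, 1, 1, 2, 0, 1, 1, 2, 1, 1, 2, 2, 1, 1]
        rw [← E_eq [3] _ (by decide +kernel)] at a1
        change (n * φ (E tauW) * n⁻¹)⁻¹ * (φ (E [4]) * (n * φ (E tauW) * n⁻¹ * (φ (E [3]) * 1))) = 1
        rw [i4, ← n3 (φ (E [3])), mul_one, conj_mul, ← a1]
        group
      · change φ (E [5]) * (n * φ (E tauW) * n⁻¹ * (φ (E [5]) * (n * φ (E tauW) * n⁻¹ * (φ (E [5]) *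
          (n * φ (E tauW) * n⁻¹ * 1))))) = 1
        rw [← ev_z, ← show TH 528 = 512 by decide +kernel, ← hn _ (by norm_num), mul_one]
        simp only [conj_mul, ← map_mul, ev, ← E_append]
        rw [E_eq _ [] (by decide +kernel), E_nil, map_one, mul_one, mul_inv_cancel]
  have hm : homOK' (coxAll Spor.HN.edges ++ Spor.HN.extra) [] HnP.code HnP.iv0 HnP.rels0 HnE.hw = true := by
    decide +kernel
  have hf := presHom_el Spor.HN.edges Spor.HN.extra R (fun g => (HnP.hc g).2) hm (L := HnP.L0) (n := 8) rfl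
    (by decide +kernel) e8
  refine ⟨presHom Spor.HN.edges Spor.HN.extra R (fun g => (HnP.hc g).2) hm, fun d => ?_, hf 6⟩
  generalize presHom Spor.HN.edges Spor.HN.extra R (fun g => (HnP.hc g).2) hm = f at hf
  refine (gen_top (K := MonoidHom.eqLocus (f.comp ψ0) φ) ?_ ?_ ?_).ge (mem_top d) <;>
    refine (congrArg f ((ψ0_E (by decide +kernel)).trans (mul_one _))).trans ?_
  exacts [hf 1, hf 3, hf 5]

theorem St2.main [Finite G] (h : St2 φ) : ∃ f : Spor.HN →* G, (∀ d, f (ψ0 d) = φ d) ∧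
    ∃ n, n * φ c0 * n⁻¹ = φ (ev 129) ∧ ∃ e ∈ K0, f (HnP.el 6) = n * φ e * n⁻¹ := by
  obtain ⟨ρ, r⟩ := h.rh
  obtain ⟨b, hb, e⟩ := h.theta r
  have N : Nn φ _ := ⟨(r.base hb rfl).1, e⟩
  obtain ⟨f, hf, h6⟩ := h.hom N.n2 N.act
  exact ⟨f, hf, _, ev_one ▸ N.c1, _, (E_mem_K0 _ (by decide +kernel)).2 (by decide +kernel), h6⟩

end Cfsg.Agent.HN
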