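import Cfsg.Agent.HN.Fr0
import Cfsg.Agent.HN.St2b

/-! Two frames in normal form generate a copy of the Harada–Norton group. -/

set_option autoImplicit false
set_option maxRecDepth 100000
set_option exponentiation.threshold 400000
set_option Elab.async false

namespace Cfsg.Agent.HN

open Cfsg.Agent.H17 HnU HnS Function Subgroup

variable {G : Type*} [Group G] {Φ Ψ : D0 → G} {φ : D0 →* G} {g t κ : G} {d d0 e : D0}

theorem Fr.cls (h : Fr Φ) {k : ℕ} (hk : k = 128 ∨ k = 129) (e : IsConj (ev k) d) :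
    ∃ g ∈ K0, Φ g * Φ (ev k) * (Φ g)⁻¹ = Φ d := by
  obtain ⟨g, hg, rfl⟩ := kconj1 hk e
  exact ⟨g, hg, h.self hg _ (by rcases hk with rfl | rfl <;> exact evK _)⟩

theorem Fr.sq1 (h : Fr Φ) (a : Act Φ t d) (t2 : t * t = 1) (hd : d ∉ K0) : d * d = 1 :=
  (h.uniq Act.one (t2 ▸ a.mul a)).resolve_right fun e => hd ((mem_K0_conj (cls2B (e.trans (one_mul _)))).1 (evK _))

theorem Fr.ne (h : Fr Φ) (a b : ℕ) (e : ((a < 30720 ∧ sg a = 0) ∧ b < 30720 ∧ sg b = 0) ∧ a ≠ b := by decide +kernel) :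
    Φ (ev a) ≠ Φ (ev b) := fun c => e.2 (ev_inj e.1.1.1 e.1.2.1 (h.inj _ (evK a e.1.1) _ (evK b e.1.2) c))

theorem outer_types (h : d * d = 1) (hK : d ∉ K0) : IsConj (ev 512) d ∨ IsConj (ev 641) d := by
  obtain ⟨j, hj, a⟩ := types h
  interval_cases j
  exacts [absurd ((mem_K0_conj a).1 (evK 0)) hK, absurd ((mem_K0_conj a).1 (evK 1)) hK,
    absurd ((mem_K0_conj a).1 (evK 129)) hK, absurd ((mem_K0_conj a).1 (evK 128)) hK, .inl a, .inr a]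

structure P3 (Φ Ψ : D0 → G) : Prop extends P2 Φ Ψ where
  a : Act Φ (Ψ c0) (ev 128)
  b : Act Ψ (Φ c0) (ev 128)

namespace P3

variable (h : P3 Φ Ψ)
include h

theorem c : Φ c0 = Ψ (ev 129) := (h.symm.pp h.b h.a).2

theorem c' : Ψ c0 = Φ (ev 129) := (h.pp h.a h.b).2

theorem w : Ψ (ev 128) = Φ (ev 128) := (h.pp h.a h.b).1

theorem al2 (k : ℕ) (hk : k < 30720 ∧ ty k = 2 := by decide +kernel) : IsConj (Φ c0) (Ψ (ev k)) := by
  have := ty_conj hk.1 (by omega)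
  rw [hk.2] at this
  obtain ⟨g, -, e⟩ := h.fr'.cls (.inr rfl) this
  exact isConj_iff.2 ⟨_, h.c ▸ e⟩

theorem be : ¬ IsConj (Φ c0) (Ψ (ev 656)) := fun a => by
  have := ty_conj (k := 656) (by norm_num) (by decide +kernel)
  rw [show ty 656 = 3 by decide +kernel] at this
  obtain ⟨g, -, e⟩ := h.fr'.cls (.inl rfl) this
  exact h.fr.nw (a.trans (isConj_iff.2 ⟨_, h.w ▸ e⟩).symm)

theorem out : ∃ d ∉ K0, Act Φ (Ψ (ev 528)) d := by
  obtain ⟨d, a⟩ := h.fr.act (Ψ (ev 528)) (by rw [h.c, h.fr'.F 528 129 657, h.fr'.F 129 528 657])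
  refine ⟨d, fun hd => ?_, a⟩
  obtain ⟨e, he, -, b⟩ := h.fr.inner (h.al2 528) (h.c ▸ h.fr'.ne 528 129) a hd
  refine h.fr.nw ((h.al2 657).trans ?_)
  rw [← h.fr'.F 129 528 657, ← h.c, b, ← h.fr.self he _ (evK 129)]
  refine (isConj_iff.2 ⟨Φ e, ?_⟩).symm
  rw [← h.fr.F 1 129 128, ev_one, ← mul_assoc, (h.fr.self he).comm_c]; group

/-- an element centralising the first frame acts on the second one as an element of `4 × 2` -/
theorem kl (a : Act Φ κ 1) : ∃ k ∈ [0, 1, 128, 129, 18, 19, 146, 147], Act Ψ κ (ev k) := by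
  have c : ∀ e ∈ K0, κ * Φ e = Φ e * κ := fun e he => a.comm he ((one_mul _).trans (mul_one _).symm)
  obtain ⟨d, b⟩ := h.fr'.act κ (h.c' ▸ c _ (evK 129))
  have s : ∀ k ∈ [1, 5, 18, 256, 3840], κ * Ψ (ev k) = Ψ (ev k) * κ := fun k hk =>
    let ⟨e, he, x⟩ := h.sub h.a h.b k hk; x ▸ c e he
  obtain ⟨k, hk, rfl⟩ := cenA (h.fr'.fix b (evK 128) (h.w ▸ c _ (evK 128))) (h.fr'.fix b (evK 256) (s _ (by simp)))
    (h.fr'.fix b (evK 3840) (s _ (by simp)))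
  exact ⟨k, hk, b⟩

theorem KL (he : e ∈ K0) (a : Act Φ (Ψ e) 1) : Ψ e = 1 ∨ Ψ e = Φ c0 := by
  have f' := h.fr'
  obtain ⟨k, hk, b⟩ := h.kl a
  let W : Subgroup G :=
    { carrier := {g | ∃ e ∈ K0, Φ e = g}
      one_mem' := ⟨1, one_mem _, h.fr.one⟩
      mul_mem' := fun ⟨u, hu, x⟩ ⟨v, hv, y⟩ => ⟨_, mul_mem hu hv, x ▸ y ▸ h.fr.mul _ hu _ hv⟩
      inv_mem' := fun ⟨u, hu, x⟩ => ⟨_, inv_mem hu, x ▸ h.fr.inv hu⟩ }
  have w1 : Ψ (ev 1) ∈ W := h.sub h.a h.b 1 (by simp)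
  have w2 : Ψ (ev 18) ∈ W := h.sub h.a h.b 18 (by simp)
  have w3 : Ψ (ev k) ∈ W ∧ ev k ∈ K0 := by
    have w4 := f'.F 18 18 128 ▸ mul_mem w2 w2
    simp only [List.mem_cons, List.not_mem_nil, or_false] at hk
    rcases hk with rfl | rfl | rfl | rfl | rfl | rfl | rfl | rfl <;> refine ⟨?_, evK _⟩
    exacts [by rw [ev_zero, f'.one]; exact one_mem _, w1, w4, f'.F 128 1 129 ▸ mul_mem w4 w1, w2,
      f'.F 18 1 19 ▸ mul_mem w2 w1, f'.F 18 128 146 ▸ mul_mem w2 w4,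
      f'.F 146 1 147 ▸ mul_mem (f'.F 18 128 146 ▸ mul_mem w2 w4) w1]
  obtain ⟨u, hu, x⟩ : Ψ e ∈ W := by
    rcases f'.uniq b (f'.self he) with rfl | rfl
    exacts [w3.1, by rw [f'.mul _ w3.2 _ c0_mem, ← ev_one]; exact mul_mem w3.1 w1]
  rw [← x]
  rcases h.fr.uniq a (x ▸ h.fr.self hu) with rfl | rfl
  exacts [.inl h.fr.one, .inr (by rw [one_mul])]

/-- the three kinds of elements centralising the first frame -/
theorem kc (a : Act Φ κ 1) : Act Ψ κ 1 ∨ Act Ψ (κ * Φ c0) 1 ∨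
    (κ * Ψ (ev 528) = Φ c0 * Ψ (ev 528) * κ ∧ Act Ψ (κ * κ * Φ c0) 1) := by
  obtain ⟨k, hk, b⟩ := h.kl a
  obtain ⟨l, c | c | c⟩ := (by decide +kernel : ∀ k ∈ [0, 1, 128, 129, 18, 19, 146, 147], k < 30720 ∧
    ((k = 0 ∨ k = 1) ∨ (mR k 128 = 0 ∨ mR k 128 = 1) ∨ (mR k 528 = mR 657 k ∧ mR k k = 128))) k hk
  · exact .inl (b.or (c.imp (fun c => by rw [c, ev_zero]) fun c => by rw [c, ev_one, one_mul]))
  · refine .inr (.inl ((b.mul h.b).or ?_))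
    rw [ev_mul l (by norm_num)]
    exact c.imp (fun c => by rw [c, ev_zero]) fun c => by rw [c, ev_one, one_mul]
  · refine .inr (.inr ⟨?_, ((b.mul b).mul h.b).or (.inl ?_)⟩)
    · rw [← mul_inv_eq_iff_eq_mul, b _ (evK 528), evJ k 528 657 ⟨⟨l, by norm_num, by norm_num⟩, c.1⟩, h.c,
        h.fr'.F 129 528 657]
    · rw [ev_mul l l, c.2, evM 128 128 0, ev_zero]

end P3

structure P4 (Φ Ψ : D0 → G) (φ : D0 →* G) (d0 : D0) : Prop extends P3 Φ Ψ where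
  k : ∀ e ∈ K0, φ e = Φ e
  n : d0 ∉ K0
  y : φ d0 = Ψ (ev 528)

theorem P3.ext (h : P3 Φ Ψ) : ∃ φ d0, P4 Φ Ψ φ d0 := by
  classical
  obtain ⟨d, hd, a⟩ := h.out
  have y2 : Ψ (ev 528) * Ψ (ev 528) = 1 := by rw [h.fr'.F 528 528 0, ev_zero, h.fr'.one]
  have d2 := h.fr.sq1 a y2 hd
  have d3 : d⁻¹ = d := inv_eq_of_mul_eq_one_right d2
  have m := h.fr.mul
  have a' : ∀ e ∈ K0, Ψ (ev 528) * Φ e = Φ (d * e * d) * Ψ (ev 528) := fun e he => by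
    rw [← mul_inv_eq_iff_eq_mul, a e he, d3]
  have k' : ∀ e ∈ K0, d * e * d ∈ K0 := fun e he => by simpa only [d3] using cjK he d
  refine ⟨MonoidHom.mk' (fun x => if x ∈ K0 then Φ x else Φ (x * d) * Ψ (ev 528)) fun u v => ?_, d,
    h, fun e he => if_pos he, hd, (if_neg hd).trans (by rw [d2, h.fr.one, one_mul])⟩
  by_cases hu : u ∈ K0 <;> by_cases hv : v ∈ K0
  · rw [if_pos hu, if_pos hv, if_pos (mul_mem hu hv), m _ hu _ hv]
  · rw [if_pos hu, if_neg hv, if_neg (mt (mul_mem_cancel_left hu).1 hv), mul_assoc u, m _ hu _ (mulN hv hd), mul_assoc]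
  · rw [if_neg hu, if_pos hv, if_neg (mt (mul_mem_cancel_right hv).1 hu), mul_assoc (Φ _), a' _ hv, ← mul_assoc,
      ← m _ (mulN hu hd) _ (k' _ hv), ← mul_assoc, ← mul_assoc, mul_assoc u d d, d2, mul_one]
  · rw [if_neg hu, if_neg hv, if_pos (mulN hu hv), mul_assoc (Φ _), ← mul_assoc (Ψ _), a' _ (mulN hv hd),
      mul_assoc (Φ _), y2, mul_one, ← m _ (mulN hu hd) _ (k' _ (mulN hv hd)), ← mul_assoc, ← mul_assoc,
      mul_assoc u d d, d2, mul_one, mul_assoc, mul_assoc v, d2, mul_one]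

/-- the common centraliser of two frames -/
def OO (Φ Ψ : D0 → G) : Subgroup G where
  carrier := {κ | Act Φ κ 1 ∧ Act Ψ κ 1}
  one_mem' := ⟨Act.one, Act.one⟩
  mul_mem' a b := ⟨by simpa using a.1.mul b.1, by simpa using a.2.mul b.2⟩
  inv_mem' a := ⟨by simpa using a.1.inv, by simpa using a.2.inv⟩

theorem Act.c1 (a : Act Φ κ 1) (he : e ∈ K0) : κ * Φ e = Φ e * κ := a.comm he ((one_mul _).trans (mul_one _).symm)

theorem Act.m1 (a : Act Φ κ 1) (b : Act Φ g 1) : Act Φ (κ * g) 1 := by simpa using a.mul b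

namespace P4

variable (h : P4 Φ Ψ φ d0)
include h

theorem c0e : φ c0 = Φ c0 := h.k _ c0_mem

theorem act (d : D0) : Act Φ (φ d) d := fun e he => by
  rw [← h.k e he, ← h.k _ (cjK he d), map_mul, map_mul, map_inv]

theorem inj : Injective φ := (injective_iff_map_eq_one φ).2 fun d e =>
  (h.fr.uniq Act.one (e ▸ h.act d)).resolve_right fun a => h.fr.c1 (by rw [← h.c0e, ← one_mul c0, ← a, e])

theorem spl (hg : g * Φ c0 = Φ c0 * g) : ∃ d κ, Act Φ κ 1 ∧ g = φ d * κ :=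
  let ⟨d, a⟩ := h.fr.act g hg; ⟨d, _, by simpa using (h.act d).inv.mul a, (mul_inv_cancel_left _ _).symm⟩

theorem outer (hd : d ∉ K0) : ∃ e ∈ K0, φ d = Φ e * Ψ (ev 528) :=
  have a := mulN hd (mt inv_mem_iff.1 h.n); ⟨_, a, by rw [← h.k _ a, ← h.y, ← map_mul, inv_mul_cancel_right]⟩

theorem Oc (a : κ ∈ OO Φ Ψ) (d : D0) : κ * φ d = φ d * κ := by
  by_cases hd : d ∈ K0
  · rw [h.k _ hd, a.1.c1 hd]
  · obtain ⟨e, he, b⟩ := h.outer hd
    rw [b, ← mul_assoc, a.1.c1 he, mul_assoc, a.2.c1 (evK 528), mul_assoc]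

/-- the conjugates of `c` in `C(c)` -/
theorem al (hg : g * Φ c0 = Φ c0 * g) (a : IsConj (Φ c0) g) : ∃ d, φ d = g := by
  have f := h.fr
  have f' := h.fr'
  by_cases g1 : g = Φ c0
  · exact ⟨_, g1 ▸ h.c0e⟩
  obtain ⟨d, b⟩ := f.act g hg
  by_cases hd : d ∈ K0
  · obtain ⟨e, he, -, c⟩ := f.inner a g1 b hd
    exact ⟨_, (h.k _ (by simpa using cjK (evK 129) e)).trans c.symm⟩
  have sq : ∀ {g}, IsConj (Φ c0) g → g * g = 1 := fun a => by
    obtain ⟨x, rfl⟩ := isConj_iff.1 a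
    rw [conj_mul, f.c2, mul_one, mul_inv_cancel]
  have key : ∀ d' k, d' ∉ K0 → ev k ∈ K0 → d' * ev 129 = ev 129 * d' → φ d' = Ψ (ev k) → IsConj d' d →
      ∃ d, φ d = g := fun d' k k1 k2 k3 k4 k5 => by
    obtain ⟨r, rfl⟩ := isConj_iff.1 k5
    have b1 : Act Φ ((φ r)⁻¹ * g * φ r) d' := by simpa [mul_assoc] using (h.act r).inv.cj b
    have b2 : Act Φ ((φ d')⁻¹ * ((φ r)⁻¹ * g * φ r)) 1 := by simpa using (h.act d').inv.mul b1
    obtain ⟨l, hl, b3⟩ := h.kl b2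
    have b4 := (f'.self k2).mul b3
    rw [← k4, mul_inv_cancel_left] at b4
    obtain ⟨e, he, -, c⟩ := f'.inner ((h.conj c0).symm.trans (a.trans (isConj_iff.2 ⟨(φ r)⁻¹, by rw [inv_inv]⟩)))
      (fun c => k1 (f.inn h.a (c ▸ b1) (evK 128))) b4 (mul_mem k2 (evK l ((by decide +kernel :
        ∀ l ∈ [0, 1, 128, 129, 18, 19, 146, 147], l < 30720 ∧ sg l = 0) l hl)))
    have e1 := cjK (evK 129) e
    have b5 : (φ d')⁻¹ * ((φ r)⁻¹ * g * φ r) = Ψ ((ev k)⁻¹ * (e * ev 129 * e⁻¹)) := by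
      rw [f'.mul _ (inv_mem k2) _ e1, f'.inv k2, ← c, k4]
    rcases h.KL (mul_mem (inv_mem k2) e1) (b5 ▸ b2) with c | c <;> rw [← b5, inv_mul_eq_iff_eq_mul] at c
    · exact ⟨r * d' * r⁻¹, by rw [map_mul, map_mul, map_inv, ← mul_one (φ d'), ← c]; group⟩
    · exact ⟨r * (d' * c0) * r⁻¹, by rw [map_mul, map_mul, map_mul, map_inv, h.c0e, ← c]; group⟩
  have y1 := h.y ▸ h.act d0
  have y2 := f.sq1 y1 (sq (h.al2 528)) h.n
  have y3 : d0 * ev 129 = ev 129 * d0 := f.fix y1 (evK 129) (h.c' ▸ (f'.self (evK 528)).comm_c)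
  have y4 : d0 * ev 128 = ev 128 * d0 := f.fix y1 (evK 128) (by
    rw [← h.w, f'.F 528 128 656, f'.F 128 528 656])
  have y5 : φ (d0 * ev 128) = Ψ (ev 656) := by rw [map_mul, h.y, h.k _ (evK 128), ← h.w, f'.F 528 128 656]
  have y6 := mt (mul_mem_cancel_right (evK 128)).1 h.n
  have y7 : d0 * ev 128 * (d0 * ev 128) = 1 := by
    rw [mul_assoc, ← mul_assoc (ev 128), ← y4, mul_assoc d0, evM 128 128 0, ev_zero, mul_one, y2]
  have y8 : ¬ IsConj d0 (d0 * ev 128) := fun c => h.be ((h.al2 528).trans (h.y ▸ y5 ▸ φ.map_isConj c))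
  have k1 := key d0 528 h.n (evK _) y3 h.y
  have k2 := key _ 656 y6 (evK _) (by rw [mul_assoc, evC 128 129, ← mul_assoc, y3, mul_assoc]) y5
  rcases outer_types y2 h.n with c1 | c1 <;> rcases outer_types y7 y6 with c2 | c2 <;>
    rcases outer_types (f.sq1 b (sq a) hd) hd with c3 | c3
  exacts [absurd (c1.symm.trans c2) y8, absurd (c1.symm.trans c2) y8, k1 (c1.symm.trans c3), k2 (c2.symm.trans c3),
    k2 (c2.symm.trans c3), k1 (c1.symm.trans c3), absurd (c1.symm.trans c2) y8, absurd (c1.symm.trans c2) y8]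

theorem mem (d : D0) : φ d ∈ centralizer (OO Φ Ψ : Set G) := mem_centralizer_iff.2 fun _ a => h.Oc a d

theorem st2 : St2 (φ.codRestrict _ h.mem) := by
  have f := h.fr
  have f' := h.fr'
  have z : ∀ κ : centralizer (OO Φ Ψ : Set G), (κ : G) ∈ OO Φ Ψ → ∀ x, κ * x = x * κ := fun κ a x =>
    Subtype.ext (mem_centralizer_iff.1 x.2 _ a)
  have ct : ∀ κ : centralizer (OO Φ Ψ : Set G), (κ : G) ∈ OO Φ Ψ → Ct (φ.codRestrict _ h.mem) κ := fun κ a =>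
    ⟨fun e _ => z κ a _, z _ (pow_mem a 4), .inl ⟨z κ a, fun e => Subtype.ext (h.kk a.1 a.2 (h.kk (mul_mem a a).1
      (mul_mem a a).2 (by
        rw [← pow_two, ← pow_two, ← pow_mul]; exact congrArg Subtype.val e)))⟩⟩
  refine ⟨fun a b e => h.inj (congrArg Subtype.val e), fun g hg => ?_, fun g hg a => ?_, fun a => ?_, ?_⟩
  · obtain ⟨d, κ, a, b⟩ := h.spl (h.c0e ▸ congrArg Subtype.val hg : (g : G) * Φ c0 = Φ c0 * g)
    have k1 : κ ∈ centralizer (OO Φ Ψ : Set G) := (mul_mem_cancel_left (h.mem d)).1 (b ▸ g.2)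
    rcases h.kc a with c | c | c
    · exact ⟨d, ⟨κ, k1⟩, ct _ ⟨a, c⟩, Subtype.ext b⟩
    · refine ⟨d * c0, ⟨κ * Φ c0, mul_mem k1 (h.c0e ▸ h.mem c0)⟩, ct _ ⟨a.m1 f.cK, c⟩, Subtype.ext ?_⟩
      change _ = φ (d * c0) * (κ * Φ c0)
      rw [a.comm_c, map_mul, h.c0e, mul_assoc, ← mul_assoc (Φ c0), f.c2, one_mul, b]
    · refine ⟨d, ⟨κ, k1⟩, ⟨fun e he => Subtype.ext ?_, z _ ?_, .inr fun e he => Subtype.ext ?_⟩, Subtype.ext b⟩
      · change κ * φ e = φ e * κ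
        rw [h.k e he, a.c1 he]
      · have o : κ * κ * Φ c0 ∈ OO Φ Ψ := ⟨(a.m1 a).m1 f.cK, c.2⟩
        have := mul_mem o o
        rwa [mul_assoc, ← mul_assoc (Φ c0), ← (a.m1 a).comm_c, mul_assoc _ (Φ c0), f.c2, mul_one, ← pow_two, ← pow_two,
          ← pow_mul] at this
      · obtain ⟨u, hu, x⟩ := h.outer he
        change κ * φ e = φ e * φ c0 * κ
        rw [mul_assoc, h.c0e, ← mul_assoc, (h.act e).comm_c, x, ← mul_assoc, a.c1 hu, mul_assoc, c.1, ← mul_assoc,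
          ← mul_assoc, (f.self hu).comm_c, mul_assoc (Φ c0)]
  · obtain ⟨d, b⟩ := h.al (h.c0e ▸ congrArg Subtype.val hg : (g : G) * Φ c0 = Φ c0 * g)
      (h.c0e ▸ (Subgroup.subtype _).map_isConj a)
    exact ⟨d, Subtype.ext b⟩
  · exact f.nw (h.c0e ▸ h.k _ (evK 128) ▸ (Subgroup.subtype _).map_isConj a)
  · have t5 := ty_conj (k := 5) (by norm_num) (by decide +kernel)
    rw [show ty 5 = 2 by decide +kernel] at t5
    refine .trans ?_ (MonoidHom.map_isConj _ t5.symm)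
    obtain ⟨u, hu, x⟩ := h.symm.sub h.b h.a 5 (by simp)
    obtain ⟨r, -, y⟩ := f.cls (.inr rfl) t5
    obtain ⟨e, he, -, b⟩ := f'.inner (h.c' ▸ x ▸ isConj_iff.2 ⟨_, y⟩) (h.c' ▸ x ▸ f.ne 5 129) (f'.self hu) hu
    refine isConj_iff.2 ⟨⟨Ψ e, mem_centralizer_iff.2 fun o ho => ho.2.c1 he⟩, Subtype.ext ?_⟩
    change Ψ e * φ c0 * (Ψ e)⁻¹ = φ (ev 5)
    rw [h.c0e, h.k _ (evK 5), h.c, f'.self he _ (evK 129), ← b, x]

/-- the copy of `HN` and its normaliser -/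
theorem hom [Finite G] : ∃ f : Spor.HN →* G, Injective f ∧ (∀ d, f (ψ0 d) = φ d) ∧
    (∀ o ∈ OO Φ Ψ, ∀ x, o * f x = f x * o) ∧ ∀ κ, Act Φ κ 1 → κ ∈ normalizer (f.range : Set G) := by
  obtain ⟨F, h1, n, h2, e, he, h3⟩ := h.st2.main
  let f := (Subgroup.subtype _).comp F
  have h1 : ∀ d, f (ψ0 d) = φ d := fun d => congrArg Subtype.val (h1 d)
  have h2 : n * Φ c0 * (n : G)⁻¹ = Φ (ev 129) := h.c0e ▸ h.k _ (evK 129) ▸ congrArg Subtype.val h2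
  have h3 : f (HnP.el 6) = n * Φ e * (n : G)⁻¹ := h.k _ he ▸ congrArg Subtype.val h3
  have h4 : ∀ o ∈ OO Φ Ψ, ∀ x, o * f x = f x * o := fun o ho x => mem_centralizer_iff.1 (F x).2 o ho
  refine ⟨f, (MonoidHom.ker_eq_bot_iff f).1 ((Normal.eq_bot_or_eq_top inferInstance).resolve_right fun e =>
    h.fr.c1 (h.c0e ▸ h1 c0 ▸ e.ge (mem_top _))), h1, h4, fun κ a => ?_⟩
  let W : Subgroup Spor.HN := (f.range.comap (MulAut.conj κ).toMonoidHom).comap f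
  have w1 : ∀ d, ψ0 d ∈ W := fun d => by
    change κ * f (ψ0 d) * κ⁻¹ ∈ f.range
    rw [h1]
    by_cases c : d ∈ K0
    · exact ⟨ψ0 d, by rw [h1, h.k d c, a.c1 c, mul_inv_cancel_right]⟩
    obtain ⟨u, hu, x⟩ := h.outer c
    rcases h.kc a with b | b | b
    · exact ⟨ψ0 d, by rw [h1, h.Oc ⟨a, b⟩, mul_inv_cancel_right]⟩
    · refine ⟨ψ0 d, ?_⟩
      have := h.Oc ⟨a.m1 h.fr.cK, b⟩ d
      rw [mul_assoc, ← (h.act d).comm_c, ← mul_assoc, ← mul_assoc, mul_left_inj] at this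
      rw [h1, this, mul_inv_cancel_right]
    · exact ⟨ψ0 (c0 * d), by rw [h1, map_mul, h.c0e, x, ← mul_assoc κ, a.c1 hu, mul_assoc _ κ, b.1, ← mul_assoc,
        ← mul_assoc, ← (h.fr.self hu).comm_c, mul_assoc _ κ, mul_inv_cancel, mul_one, mul_assoc]⟩
  have w2 : ∀ x ∈ [1, 3, 5], HnP.el x ∈ W := fun x hx => by
    have := w1 (E [x])
    rw [ψ0_E ((by decide +kernel : ∀ x ∈ [1, 3, 5], allM (mskL HnF.g0) [x] = true) x hx)] at this
    simpa [H58.wv] using this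
  have w3 : W = ⊤ := HnP.eq_top W fun x hx => by
    by_cases x6 : x = 6
    · subst x6
      obtain ⟨m, hm⟩ := isConj_iff.1 conj_c'
      have hm := congrArg f hm
      rw [map_mul, map_mul, map_inv, h1, h1, ← ev_cp, h.c0e, h.k _ (evK 129)] at hm
      obtain ⟨r, b⟩ := h.fr.act ((f m)⁻¹ * κ * n) (by
        rw [mul_assoc, mul_inv_eq_iff_eq_mul.1 h2, ← mul_assoc, mul_assoc _ κ, a.c1 (evK 129), ← hm]; group)
      refine ⟨m * ψ0 (r * e * r⁻¹) * m⁻¹, ?_⟩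
      change _ = κ * f _ * κ⁻¹
      rw [map_mul, map_mul, map_inv, h1, h.k _ (cjK he r), ← b e he, h3]; group
    · exact w2 x (by simp at hx ⊢; tauto)
  exact mem_normalizer_fintype fun _ ⟨x, e⟩ => e ▸ w3.ge (mem_top x)

end P4

end Cfsg.Agent.HN
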