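import Cfsg.Agent.HN.Fr3
import Cfsg.Agent.HN.End1
import Cfsg.Agent.HN.End2

/-! A simple group with a standard subgroup `2.HS` is the Harada–Norton group. -/

set_option autoImplicit false
set_option maxRecDepth 100000

namespace Cfsg.Agent.HN

open Cfsg.Agent.H17 HnU HnS Function Subgroup

variable {G : Type*} [Group G] [Finite G] [IsSimpleGroup G]

theorem P4.iso {Φ Ψ : D0 → G} {φ : D0 →* G} {d0 : D0} (h : P4 Φ Ψ φ d0) : Nonempty (G ≃* Spor.HN) := by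
  obtain ⟨f, hf, h1, h2, h3⟩ := h.hom
  have hO : ∀ o ∈ OO Φ Ψ, o * o = 1 → o = 1 := fun o a => h.kk a.1 a.2
  have c : f (ψ0 c0) = Φ c0 := (h1 _).trans h.c0e
  have nw : ¬ IsConj (f (ψ0 c0)) (f (ψ0 (ev 128))) := by rw [c, h1, h.k _ (evK 128)]; exact h.fr.nw
  have key : ∀ {κ}, Act Φ κ 1 → Act Ψ κ 1 ∨ Act Ψ (κ * Φ c0) 1 → ∀ d, ∃ d', ∃ o ∈ OO Φ Ψ, φ d * κ = f (ψ0 d') * o :=
    fun {κ} a b d => b.elim (fun b => ⟨d, κ, ⟨a, b⟩, by rw [h1]⟩) fun b => ⟨d * c0, _, ⟨a.m1 h.fr.cK, b⟩, by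
      rw [h1, a.comm_c, map_mul, h.c0e, mul_assoc, ← mul_assoc (Φ c0), h.fr.c2, one_mul]⟩
  by_cases hK : ∀ κ, Act Φ κ 1 → Act Ψ κ 1 ∨ Act Ψ (κ * Φ c0) 1
  · refine ⟨(MulEquiv.ofBijective f ⟨hf, end1 f hf _ hO h2 nw fun g hg => ?_⟩).symm⟩
    obtain ⟨d, κ, a, rfl⟩ := h.spl (c ▸ hg)
    exact key a (hK κ a) d
  push Not at hK
  obtain ⟨κ, a, b1, b2⟩ := hK
  have o : κ * κ * Φ c0 ∈ OO Φ Ψ := ⟨(a.m1 a).m1 h.fr.cK, (((h.kc a).resolve_left b1).resolve_left b2).2⟩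
  obtain ⟨m, hm⟩ : Odd (orderOf (κ * κ * Φ c0)) := by
    rw [← Nat.not_even_iff_odd]
    rintro ⟨m, hm⟩
    have := orderOf_pos (κ * κ * Φ c0)
    exact pow_ne_one_of_lt_orderOf (by omega) (by omega : m < _)
      (hO _ (pow_mem o m) (by rw [← pow_add, ← hm, pow_orderOf_eq_one]))
  have k1 : Act Φ (κ ^ (2 * m + 1)) 1 := by simpa using a.pow (2 * m + 1)
  have k2 : κ ^ (2 * m + 1) * κ ^ (2 * m + 1) = Φ c0 := by
    have := pow_orderOf_eq_one (κ * κ * Φ c0)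
    rw [hm, Commute.mul_pow (a.m1 a).comm_c, Commute.mul_pow rfl, pow_succ (Φ c0), pow_mul, pow_two (Φ c0), h.fr.c2,
      one_pow, one_mul, ← h.fr.c2, mul_left_inj] at this
    exact this
  generalize κ ^ (2 * m + 1) = k at k1 k2
  have k3 : k * Ψ (ev 528) = Φ c0 * Ψ (ev 528) * k := by
    rcases h.kc k1 with b | b | b
    · exact absurd (k2 ▸ b.m1 b) h.symm.nK
    · refine absurd (b.m1 b) ?_
      rw [mul_assoc, ← mul_assoc (Φ c0), ← k1.comm_c, mul_assoc, h.fr.c2, mul_one, k2]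
      exact h.symm.nK
    · exact b.1
  refine (end2 f hf _ hO h2 nw k (k2.trans c.symm) (fun d hd => by rw [h1, h.k d hd, k1.c1 hd]) (h3 k k1)
    (mem_normalizer_fintype fun x hx => ⟨k1.cj1 hx.1, let ⟨_, _, b⟩ := h.kl k1; b.cj1 hx.2⟩) (fun g hg => ?_)
    fun b => ?_).elim
  · obtain ⟨d, κ, a, rfl⟩ := h.spl (c ▸ hg)
    rcases or_assoc.2 (h.kc a) with b | b
    · exact let ⟨d, o, x, y⟩ := key a b d; ⟨d, o, x, .inl y⟩
    have a' : Act Φ (κ * k⁻¹) 1 := a.m1 (by simpa using k1.inv)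
    rcases or_assoc.2 (h.kc a') with b' | b'
    · exact let ⟨d, o, x, y⟩ := key a' b' d; ⟨d, o, x, .inr (by rw [← y]; group)⟩
    · refine absurd ?_ h.fr.c1
      have e1 : k⁻¹ * Ψ (ev 528) = Φ c0 * Ψ (ev 528) * k⁻¹ := by
        rw [inv_mul_eq_iff_eq_mul, ← mul_assoc, ← mul_assoc, k1.comm_c, mul_assoc _ k, k3, ← mul_assoc, ← mul_assoc,
          h.fr.c2, one_mul, mul_inv_cancel_right]
      have e2 := b'.1
      rwa [mul_assoc, e1, ← mul_assoc, ← mul_assoc, a.comm_c, mul_assoc _ κ, b.1, ← mul_assoc, ← mul_assoc, h.fr.c2,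
        one_mul, ← mul_assoc, mul_left_inj, mul_left_inj, eq_comm, mul_eq_right] at e2
  · rw [c, h1] at b
    obtain ⟨d, e⟩ := h.al (by rw [mul_assoc, k1.comm_c, ← mul_assoc, (h.act _).comm_c, mul_assoc]) b
    have e1 : k = φ ((ev 514)⁻¹ * d) := by rw [map_mul, map_inv, e, inv_mul_cancel_left]
    refine h.fr.c1 ?_
    rcases h.fr.uniq k1 (e1 ▸ h.act _) with x | x <;> rw [← k2, e1, x]
    · rw [map_one, mul_one]
    · rw [one_mul, h.c0e, h.fr.c2]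

theorem standard (hG : ¬ IsMulCommutative G) (L : Subgroup G) (hL : IsStandardSubgroup L)
    (h2 : Nat.card (center L) = 2) (he : Nonempty (L ⧸ center L ≃* Spor.HS)) : Nonempty (G ≃* Spor.HN) := by
  obtain ⟨Φ, h⟩ := exists_Fr L hL h2 he
  obtain ⟨u, h1, h2, h3⟩ := h.zs hG
  obtain ⟨Φ, Ψ, p, a, b⟩ := h.ex h1 h2 h3
  obtain ⟨φ, d, q⟩ := P3.ext ⟨p, a, b⟩
  exact q.iso

end Cfsg.Agent.HN
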