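import Cfsg.Agent.HN.Fr1
import Cfsg.Agent.HN.Mir2

/-! The fusion of the involutions of `2.HS.2` when the centraliser of `c` is larger. -/

set_option autoImplicit false
set_option maxRecDepth 100000
set_option exponentiation.threshold 400000
set_option Elab.async false
set_option synthInstance.maxSize 4000

namespace Cfsg.Agent.HN

open Cfsg.Agent.H58 Cfsg.Agent.H17 Cfsg.Agent.H14 Cfsg.Agent.H88 HnU Function

variable {G : Type*} [Group G] {φ : D0 →* G}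

/-- the elements centralising `φ K0` -/
structure Ct (φ : D0 →* G) (κ : G) : Prop where
  k0 : ∀ e ∈ K0, κ * φ e = φ e * κ
  k4 : ∀ x, κ ^ 4 * x = x * κ ^ 4
  k1 : ((∀ x, κ * x = x * κ) ∧ (κ ^ 4 = 1 → κ = 1)) ∨ ∀ e ∉ K0, κ * φ e = φ e * φ c0 * κ

structure St2 (φ : D0 →* G) : Prop where
  inj : Injective φ
  cen : ∀ g, g * φ c0 = φ c0 * g → ∃ d κ, Ct φ κ ∧ g = φ d * κ
  al : ∀ g, g * φ c0 = φ c0 * g → IsConj (φ c0) g → ∃ d, φ d = g
  nw : ¬ IsConj (φ c0) (φ (ev 128))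
  cp : IsConj (φ c0) (φ (ev 129))

theorem Ct.pow4 {κ : G} (h : Ct φ κ) (d : D0) : (φ d * κ) ^ 4 = φ (d ^ 4) * κ ^ 4 := by
  by_cases a : κ * φ d = φ d * κ
  · rw [map_pow, Commute.mul_pow a.symm]
  have b := (h.k1.resolve_left fun e => a (e.1 _)) d fun e => a (h.k0 d e)
  have c : Commute (φ (d * d * c0)) κ := (h.k0 _ (mul_mem (sqK d) c0_mem)).symm
  rw [show 4 = 2 * 2 from rfl, pow_mul, pow_two (_ * κ), mul_assoc, ← mul_assoc κ, b, ← mul_assoc, ← mul_assoc,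
    ← mul_assoc, ← map_mul, ← map_mul, mul_assoc, (c.mul_right c).mul_pow, ← map_pow, ← pow_two κ, ← pow_mul,
    Commute.mul_pow (c0_comm _), pow_two c0, c0_sq, mul_one, ← pow_two, ← pow_mul]

namespace St2

variable (h : St2 φ)
include h

theorem sq1 {d : D0} {ζ : G} (hζ : ∀ x, ζ * x = x * ζ) (e : φ d * ζ = 1) : d * d = 1 := by
  by_cases a : d = 1
  · rw [a, mul_one]
  · rw [eq_c0 (fun g => h.inj ?_) a, c0_sq]
    rw [map_mul, map_mul, eq_inv_of_mul_eq_one_left e]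
    exact (Commute.inv_left (hζ _)).symm

theorem three {y : G} (h1 : y * φ c0 = φ c0 * y) (h3 : y ^ 3 = 1) :
    ∃ r ζ, (∀ x, ζ * x = x * ζ) ∧ r ^ 3 = 1 ∧ y = φ r * ζ := by
  obtain ⟨d, κ, a, rfl⟩ := h.cen y h1
  have a1 : ∀ x, Commute (κ ^ 4) x := a.k4
  have a2 := a.pow4 d
  rw [pow_succ, h3, one_mul] at a2
  have a3 := h.sq1 (d := (d ^ 4) ^ 3) (fun x => (a1 x).pow_left 3) (by
    rw [map_pow, ← (a1 _).symm.mul_pow, ← a2, h3])
  refine ⟨(d ^ 4) ^ 4, _, fun x => (a1 x).pow_left 4, ?_, ?_⟩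
  · rw [← pow_mul (d ^ 4), show 4 * 3 = (3 + 3) * 2 from rfl, pow_mul, pow_add, a3, one_pow]
  · rw [map_pow, ← (a1 _).symm.mul_pow, ← a2, pow_succ, h3, one_mul]

theorem F_inj {a b : ℕ} (ha : a < 30720) (hb : b < 30720) (e : φ (ev a) = φ (ev b)) : a = b :=
  ev_inj ha hb (h.inj e)

theorem F_comm {a b : ℕ} (ha : a < 30720) (hb : b < 30720) :
    φ (ev a) * φ (ev b) = φ (ev b) * φ (ev a) ↔ mR a b = mR b a := by
  rw [← map_mul, ← map_mul, h.inj.eq_iff, ev_comm ha hb]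

theorem n1 : ¬ IsConj (φ c0) 1 := fun e =>
  c0_ne (h.inj ((isConj_one_left.1 e).trans φ.map_one.symm))

theorem cenW {g : G} (h1 : g * φ c0 = φ c0 * g) (h2 : g * φ (ev 128) = φ (ev 128) * g) :
    ∃ k < 30720, ∃ κ, Ct φ κ ∧ g = φ (ev k) * κ := by
  obtain ⟨d, κ, a, rfl⟩ := h.cen g h1
  rw [mul_assoc, a.k0 _ (evK 128), ← mul_assoc, ← mul_assoc, mul_left_inj] at h2
  obtain ⟨k, hk, rfl⟩ := cent_w (d := d) (h.inj (by rw [map_mul, map_mul, h2]))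
  exact ⟨k, hk, κ, a, rfl⟩

theorem alW {g : G} (h1 : ∃ d, φ d = g) (h2 : g * φ (ev 128) = φ (ev 128) * g) :
    ∃ k < 30720, φ (ev k) = g := by
  obtain ⟨d, rfl⟩ := h1
  obtain ⟨k, hk, rfl⟩ := cent_w (d := d) (h.inj (by rw [map_mul, map_mul, h2]))
  exact ⟨k, hk, rfl⟩

theorem lab {m : ℕ} (hm : lk m 1 1 6 = 0) (h1 : ∀ j < 6, IsConj (φ c0) (φ (ev (tr j))) ↔ lk m 1 1 j = 1)
    {k : ℕ} (hk : k < 30720) : IsConj (φ c0) (φ (ev k)) ↔ lb m k := by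
  rcases cl_spec hk with ⟨a, b⟩ | ⟨a, -⟩
  · refine iff_of_false (fun e => b ?_) (by rw [lb, a, hm]; decide)
    exact h.F_inj (mR_lt hk hk) (by norm_num) (by rw [← F_mul φ hk hk, sq_of_al e, ev_zero, map_one])
  · exact (al_ty φ k _ ⟨⟨hk, a⟩, rfl⟩).trans (h1 _ a)

/-- the five possibilities for an element of order at most two commuting with `c` -/
theorem pair {x : G} (h1 : ∃ d, φ d = x) (h2 : x * x = 1) : x = 1 ∨ x = φ c0 ∨
    ∃ g, (∃ d, φ d = g) ∧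
      ((φ (ev 129) = g * x * g⁻¹ ∧ ¬ IsConj (φ c0) (φ c0 * x)) ∨
      (φ (ev 128) = g * x * g⁻¹ ∧ ¬ IsConj (φ c0) x ∧ (IsConj (φ c0) (φ c0 * x) ↔ IsConj (φ c0) (φ (ev 129)))) ∨
      ((φ (ev 512) = g * x * g⁻¹ ∨ φ (ev 641) = g * x * g⁻¹) ∧ (IsConj (φ c0) (φ c0 * x) ↔ IsConj (φ c0) x))) := by
  obtain ⟨d, rfl⟩ := h1
  obtain ⟨j, hj, e⟩ := types (d := d) (h.inj (by rw [map_mul, h2, map_one]))
  obtain ⟨g, e⟩ := isConj_iff.1 e.symm
  have e1 : φ (ev (tr j)) = φ g * φ d * (φ g)⁻¹ := by rw [← e, map_mul, map_mul, map_inv]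
  have e2 : φ g * φ c0 * (φ g)⁻¹ = φ c0 := by rw [F_c, mul_inv_cancel_right]
  have e3 : IsConj (φ c0) (φ c0 * φ d) ↔ IsConj (φ c0) (φ (ev 1) * φ (ev (tr j))) := by
    rw [← conj_al (φ g), ← conj_mul, e2, ev_one, e1]
  have e4 : IsConj (φ c0) (φ d) ↔ IsConj (φ c0) (φ (ev (tr j))) := by rw [e1, conj_al]
  interval_cases j
  · exact .inl (conj_eq_one_iff.1 (e1.symm.trans φ.map_one))
  · refine .inr (.inl (by rw [eq_c0_of_conj (d := d) (ev_one ▸ (isConj_iff.2 ⟨g, e⟩).symm)]))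
  · exact .inr (.inr ⟨_, ⟨g, rfl⟩, .inl ⟨e1, by rw [e3, F_mul' φ 1 (tr 2) 128]; exact h.nw⟩⟩)
  · exact .inr (.inr ⟨_, ⟨g, rfl⟩, .inr (.inl ⟨e1, fun a => h.nw (e4.1 a), by rw [e3, F_mul' φ 1 (tr 3) 129]⟩)⟩)
  · exact .inr (.inr ⟨_, ⟨g, rfl⟩, .inr (.inr ⟨.inl e1, by rw [e3, e4, F_mul' φ 1 (tr 4) 513, al_ty φ 513 4]⟩)⟩)
  · exact .inr (.inr ⟨_, ⟨g, rfl⟩, .inr (.inr ⟨.inr e1, by rw [e3, e4, F_mul' φ 1 (tr 5) 640, al_ty φ 640 5]⟩)⟩)

theorem pair3 {x : G} (h1 : x * φ c0 = φ c0 * x) (h2 : IsConj (φ c0) x) (h3 : IsConj (φ c0) (φ c0 * x)) :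
    ∃ g, (∃ d, φ d = g) ∧ (φ (ev 512) = g * x * g⁻¹ ∨ φ (ev 641) = g * x * g⁻¹) := by
  rcases h.pair (h.al x h1 h2) (sq_of_al h2) with rfl | rfl | ⟨g, a, b | b | b⟩
  · exact absurd h2 h.n1
  · rw [sq_of_al h2] at h3; exact absurd h3 h.n1
  · exact absurd h3 b.2
  · exact absurd h2 b.2.1
  · exact ⟨g, a, b.1⟩

theorem pair2 {x : G} (h1 : x * φ c0 = φ c0 * x) (h0 : x * x = 1) (h4 : x ≠ 1) (h2 : ¬ IsConj (φ c0) x)
    (h3 : IsConj (φ c0) (φ c0 * x)) :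
    ∃ g, g * φ c0 * g⁻¹ = φ c0 ∧ φ (ev 128) = g * x * g⁻¹ := by
  obtain ⟨d, e⟩ := h.al _ (by rw [mul_assoc, h1]) h3
  rcases h.pair ⟨c0⁻¹ * d, by rw [map_mul, e, map_inv, inv_mul_cancel_left]⟩ h0 with rfl | rfl | ⟨g, a, b | b | b⟩
  · exact absurd rfl h4
  · exact absurd (IsConj.refl _) h2
  · exact absurd h3 b.2
  · obtain ⟨d, rfl⟩ := a
    exact ⟨_, by rw [F_c, mul_inv_cancel_right], b.1⟩
  · exact absurd (b.2.1 h3) h2

theorem outer {k : ℕ} {g x : G} (hk : k < 30720) (h1 : ∃ d, φ d = g) (h2 : φ (ev k) = g * x * g⁻¹) :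
    x ∈ K0.map φ ↔ sg k = 0 := by
  obtain ⟨d, rfl⟩ := h1
  obtain rfl : x = φ (d⁻¹ * ev k * d⁻¹⁻¹) := by rw [map_mul, map_mul, h2]; simp [mul_assoc]
  rw [Subgroup.mem_map_iff_mem h.inj, ← mem_K0_conj (isConj_iff.2 ⟨_, rfl⟩), sg_spec hk]

theorem claim2 :
    (IsConj (φ c0) (φ (ev 512)) ∨ IsConj (φ c0) (φ (ev 641))) ∧
      ¬ (IsConj (φ c0) (φ (ev 512)) ∧ IsConj (φ c0) (φ (ev 641))) := by
  have h2 := h.cp
  obtain ⟨g, e⟩ := isConj_iff.1 h2.symm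
  have a1 : IsConj (φ c0) (g * φ (ev 528) * g⁻¹) := by rw [conj_al, al_ty φ 528 2]; exact h2
  have a2 : g * φ (ev 528) * g⁻¹ * φ c0 = φ c0 * (g * φ (ev 528) * g⁻¹) := by
    rw [← e, conj_mul, conj_mul, F_mul' φ 528 129 657, F_mul' φ 129 528 657]
  obtain ⟨g1, b1, b2⟩ := h.pair3 a2 a1 (by
    nth_rw 2 [← e]
    rw [conj_mul, conj_al, F_mul' φ 129 528 657, al_ty φ 657 2]; exact h2)
  refine ⟨b2.imp (fun b => by rwa [b, conj_al]) fun b => by rwa [b, conj_al], fun ⟨h4, h5⟩ => ?_⟩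
  have a3 : g * φ (ev 528) * g⁻¹ ∉ K0.map φ := by
    rcases b2 with b | b <;> rw [h.outer (by norm_num) b1 b] <;> decide +kernel
  have a4 : g * φ c0 * g⁻¹ * φ c0 = φ c0 * (g * φ c0 * g⁻¹) := by
    nth_rw 2 3 [← e]
    rw [conj_mul, conj_mul, F_c]
  have a5 : ¬ IsConj (φ c0) (φ c0 * (g * φ c0 * g⁻¹)) := by
    nth_rw 2 [← e]
    rw [conj_mul, conj_al, F_c, ← map_mul, ← w_eq]; exact h.nw
  have a0 : IsConj (φ c0) (g * φ c0 * g⁻¹) := (conj_al g).2 (IsConj.refl _)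
  have a6 : g * φ c0 * g⁻¹ ∈ K0.map φ := by
    rcases h.pair (h.al _ a4 a0) (sq_of_al a0) with b | b | ⟨g2, c, b | b | b⟩
    · exact b ▸ one_mem _
    · exact b.symm ▸ ⟨c0, c0_mem, rfl⟩
    · exact (h.outer (by norm_num) c b.1).2 (by decide +kernel)
    · exact absurd a0 b.2.1
    · exact absurd (b.2.2 a0) a5
  have a7 : g * φ (ev 529) * g⁻¹ ∉ K0.map φ := by
    rw [← F_mul' φ 1 528 529, ← conj_mul, ev_one, Subgroup.mul_mem_cancel_left _ a6]; exact a3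
  have a8 : ¬ IsConj (φ c0) (g * φ (ev 529) * g⁻¹) := by rw [conj_al, al_ty φ 529 3]; exact h.nw
  rcases h.pair (x := g * φ (ev 529) * g⁻¹)
    (by rw [← F_mul' φ 1 528 529, ← conj_mul, ev_one]; exact φ.range.mul_mem (h.al _ a4 a0) (h.al _ a2 a1))
    (by rw [conj_mul, F_mul' φ 529 529 0, ev_zero, map_one, mul_one, mul_inv_cancel]) with
    b | b | ⟨g2, c, b | b | ⟨b | b, -⟩⟩
  · exact a7 (b ▸ one_mem _)
  · exact a8 (b ▸ IsConj.refl _)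
  · exact a7 ((h.outer (by norm_num) c b.1).2 (by decide +kernel))
  · exact a7 ((h.outer (by norm_num) c b.1).2 (by decide +kernel))
  · exact a8 ((conj_al g2).1 (b ▸ h4))
  · exact a8 ((conj_al g2).1 (b ▸ h5))

end St2

/-- moving a pair `(a, z)` and an element of order three into the standard position -/
theorem St2.frame (h : St2 φ) {a z u : G} (h1 : IsConj (φ c0) a) (h2 : IsConj (φ c0) (a * z))
    (h3 : ¬ IsConj (φ c0) z) (z2 : z * z = 1) (z1 : z ≠ 1) (az : z * a = a * z) (ua : u * a = a * u)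
    (uz : u * z = z * u) (u3 : u ^ 3 = 1) (u0 : ¬ ∀ x, u * x = x * u) : ∃ γ, γ * a * γ⁻¹ = φ (ev 1) ∧ γ * z * γ⁻¹ = φ (ev 128) ∧
      ∀ g, γ * g * γ⁻¹ * φ (ev 3840) = φ (ev 3840) * (γ * g * γ⁻¹) ↔ g * u = u * g := by
  obtain ⟨g0, e0⟩ := isConj_iff.1 h1.symm
  obtain ⟨g1, e1, e2⟩ := h.pair2 (x := g0 * z * g0⁻¹) (by rw [← e0, conj_mul, conj_mul, az])
    (by rw [conj_mul, z2, mul_one, mul_inv_cancel]) (by simpa using z1) (by rwa [conj_al])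
    (by nth_rw 2 [← e0]; rwa [conj_mul, conj_al])
  have e3 : g1 * g0 * a * (g1 * g0)⁻¹ = φ c0 := by rw [← e1, ← e0]; group
  have e4 : g1 * g0 * z * (g1 * g0)⁻¹ = φ (ev 128) := by rw [e2]; group
  generalize g1 * g0 = g at e3 e4
  obtain ⟨r, ζ, z0, k2, e5⟩ := h.three (y := g * u * g⁻¹) (by rw [← e3, conj_mul, conj_mul, ua])
    (by rw [conj_pow, u3, mul_one, mul_inv_cancel])
  obtain ⟨k, hk, rfl⟩ := cent_w (d := r) (h.inj (by
    rw [map_mul, map_mul, ← mul_left_inj ζ, mul_assoc, ← z0, ← mul_assoc, mul_assoc (φ (ev 128)), ← e5, ← e4,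
      conj_mul, conj_mul, uz]))
  have r3 := ev3
  have : Fact (Nat.Prime 3) := ⟨Nat.prime_three⟩
  have r4 : orderOf (ev 3840) = 3 := orderOf_eq_prime r3 fun e => absurd (ev_eq_one (by norm_num) e) (by norm_num)
  have k3 : orderOf (ev k) = 3 := orderOf_eq_prime k2 fun e => u0 fun x => by
    rw [← conj_inj (g := g), ← conj_mul, ← conj_mul, e5, e, map_one, one_mul, z0]
  obtain ⟨r, hr, e6⟩ := exists_conj_mem_zpowers_of_mem Nat.prime_three (H := Subgroup.centralizer {ev 129})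
    (by rw [card_R]; norm_num) (Subgroup.mem_centralizer_singleton_iff.2 (ev_cp_comm hk))
    (Subgroup.mem_centralizer_singleton_iff.2 (ev_cp_comm (k := 3840) (by norm_num))) k3 r4
  obtain ⟨l, hl, rfl⟩ := cent_cp (Subgroup.mem_centralizer_singleton_iff.1 hr)
  have e7 : ev 3840 ∈ Subgroup.zpowers (ev l * ev k * (ev l)⁻¹) :=
    (Subgroup.eq_of_le_of_card_ge (Subgroup.zpowers_le.2 e6) (by
      rw [Nat.card_zpowers, Nat.card_zpowers, r4, ← k3]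
      exact ((MulAut.conj (ev l)).orderOf_eq (ev k)).ge)).ge (Subgroup.mem_zpowers _)
  have e8 : φ (ev l * ev k * (ev l)⁻¹) * ζ = φ (ev l) * g * u * (φ (ev l) * g)⁻¹ := by
    rw [map_mul, map_mul, map_inv, mul_assoc, ← z0, ← mul_assoc, mul_assoc _ _ ζ, ← e5]; group
  refine ⟨φ (ev l) * g, ?_, ?_, fun x => ⟨fun a => ?_, fun a => ?_⟩⟩
  · calc _ = φ (ev l) * (g * a * g⁻¹) * (φ (ev l))⁻¹ := by group
      _ = _ := by rw [e3, F_c, mul_inv_cancel_right, ev_one]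
  · calc _ = φ (ev l) * (g * z * g⁻¹) * (φ (ev l))⁻¹ := by group
      _ = _ := by rw [e4, ← map_mul, ev_w_comm hl, map_mul, mul_inv_cancel_right]
  · obtain ⟨n, hn⟩ := e6
    have := ((Commute.zpow_right a n).mul_right (z0 _).symm).eq
    rw [← map_zpow, show ev 3840 ^ n = _ from hn, e8, conj_mul, conj_mul] at this
    simpa using this
  · obtain ⟨n, hn⟩ := e7
    rw [← hn, map_zpow, eq_mul_inv_of_mul_eq e8]
    exact (Commute.zpow_right (Commute.mul_right (by rw [Commute, SemiconjBy, conj_mul, conj_mul, a])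
      (Commute.inv_right (z0 _).symm)) n).eq

theorem mirU : ∀ k < 30720, mR k 3840 = mR 3840 k → ∀ x ∈ [80, 208, 81, 209], mR (mR k x) 1 ≠ mR x k :=
  allD (by decide +kernel)

theorem St2.n5 [Finite G] (h : St2 φ) : ¬ IsConj (φ c0) (φ (ev 641)) := by
  intro h5
  have h2 := h.cp
  have h4 : ¬ IsConj (φ c0) (φ (ev 512)) := fun a => h.claim2.2 ⟨a, h5⟩
  have lab : ∀ {k}, k < 30720 → (IsConj (φ c0) (φ (ev k)) ↔ lb 38 k) := h.lab (by decide) fun j hj => by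
    interval_cases j
    exacts [iff_of_false (by rw [show tr 0 = 0 from rfl, ev_zero, map_one]; exact h.n1) (by decide),
      iff_of_true (by rw [show tr 1 = 1 from rfl, ev_one]) (by decide), iff_of_true h2 (by decide),
      iff_of_false h.nw (by decide), iff_of_false h4 (by decide), iff_of_true h5 (by decide)]
  let H := Subgroup.centralizer ({φ (ev 512), φ (ev 15468)} : Set G)
  have mem : ∀ g, g ∈ H ↔ g * φ (ev 512) = φ (ev 512) * g ∧ g * φ (ev 15468) = φ (ev 15468) * g := fun g => by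
    simp [H, Subgroup.mem_centralizer_iff, eq_comm]
  have u3 : φ (ev 15468) ^ 3 = 1 := by rw [pow_succ, pow_two, F_mul φ, F_mul' φ _ _ 0, ev_zero, map_one]
  let z : H := ⟨φ (ev 512), (mem _).2 ⟨rfl, (h.F_comm (by norm_num) (by norm_num)).2 (by decide +kernel)⟩⟩
  have z2 : φ (ev 512) * φ (ev 512) = 1 := by rw [F_mul' φ _ _ 0, ev_zero, map_one]
  have z1 : φ (ev 512) ≠ 1 := fun e => absurd (h.F_inj (a := 512) (b := 0) (by norm_num) (by norm_num)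
    (by rw [e, ev_zero, map_one])) (by norm_num)
  have hz : ∀ g : H, g * z = z * g := fun g => Subtype.ext ((mem g).1 g.2).1
  have fr : ∀ a : H, IsConj (φ c0) (a : G) ∧ IsConj (φ c0) (a * z : H) → ∃ γ : G,
      γ * a * γ⁻¹ = φ (ev 1) ∧ γ * z * γ⁻¹ = φ (ev 128) ∧
      (∀ g : H, g * a = a * g → IsConj (φ c0) (g : G) → ∃ k < 30720, mR k 3840 = mR 3840 k ∧ γ * g * γ⁻¹ = φ (ev k)) ∧
      (∀ g : H, g * a = a * g → ∃ k < 30720, mR k 3840 = mR 3840 k ∧ ∃ κ, Ct φ κ ∧ γ * g * γ⁻¹ = φ (ev k) * κ) ∧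
      ∀ k < 30720, mR k 3840 = mR 3840 k → ∃ g : H, g * a = a * g ∧ γ * g * γ⁻¹ = φ (ev k) := fun a ha => by
    obtain ⟨γ, a1, a2, a3⟩ := h.frame ha.1 ha.2 h4 z2 z1 ((mem a).1 a.2).1.symm ((mem a).1 a.2).2.symm
      ((mem z).1 z.2).2.symm u3 fun e => absurd
        ((h.F_comm (by norm_num) (by norm_num)).1 (e (φ (ev 256)))) (by decide +kernel)
    have b1 : ∀ g : H, g * a = a * g → γ * g * γ⁻¹ * φ c0 = φ c0 * (γ * g * γ⁻¹) := fun g hg => by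
      rw [← ev_one, ← a1, conj_mul, conj_mul, conj_inj]; exact congrArg Subtype.val hg
    have b2 : ∀ g : H, γ * g * γ⁻¹ * φ (ev 128) = φ (ev 128) * (γ * g * γ⁻¹) := fun g => by
      rw [← a2, conj_mul, conj_mul, ((mem g).1 g.2).1]
    refine ⟨γ, a1, a2, fun g hg c => ?_, fun g hg => ?_, fun k hk e => ?_⟩
    · obtain ⟨k, hk, e⟩ := h.alW (h.al _ (b1 g hg) ((conj_al _).2 c)) (b2 g)
      exact ⟨k, hk, (h.F_comm hk (by norm_num)).1 (e ▸ (a3 g).2 ((mem g).1 g.2).2), e.symm⟩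
    · obtain ⟨k, hk, κ, c, e⟩ := h.cenW (b1 g hg) (b2 g)
      have := (a3 g).2 ((mem g).1 g.2).2
      rw [e, mul_assoc, c.k0 _ (evK 3840), ← mul_assoc, ← mul_assoc, mul_left_inj] at this
      exact ⟨k, hk, (h.F_comm hk (by norm_num)).1 this, κ, c, e⟩
    · obtain ⟨q, e1⟩ : ∃ q, γ * q * γ⁻¹ = φ (ev k) := ⟨γ⁻¹ * φ (ev k) * γ, by group⟩
      refine ⟨⟨q, (mem _).2 ⟨?_, (a3 _).1 (e1.symm ▸ (h.F_comm hk (by norm_num)).2 e)⟩⟩,
        Subtype.ext ?_, e1⟩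
      · rw [← conj_inj (g := γ), ← conj_mul, ← conj_mul, e1, a2, ← map_mul, ev_w_comm hk, map_mul]
      · change q * (a : G) = a * q
        rw [← conj_inj (g := γ), ← conj_mul, ← conj_mul, e1, a1, ev_one, F_c]
  have cz : ∀ g a : H, ((g * a * g⁻¹ * z : H) : G) = g * (a * z : H) * (g : G)⁻¹ := fun g a => by
    rw [mul_assoc _ _ z, hz, ← mul_assoc, mul_assoc g]; rfl
  have zz : z * z = 1 := Subtype.ext z2
  have tr : ∀ (γ : G) (a b : H) {k l m : ℕ}, γ * a * γ⁻¹ = φ (ev k) → γ * b * γ⁻¹ = φ (ev l) →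
      (k < 30720 ∧ l < 30720) ∧ mR k l = m → γ * (a * b : H) * γ⁻¹ = φ (ev m) := fun γ a b k l m e1 e2 e3 => by
    rw [Subgroup.coe_mul, ← conj_mul, e1, e2, F_mul' φ k l m e3]
  have eq : ∀ {γ : G} {a b : H} {k : ℕ}, γ * a * γ⁻¹ = φ (ev k) → γ * b * γ⁻¹ = φ (ev k) → a = b :=
    fun e1 e2 => Subtype.ext (conj_inj.1 (e1.trans e2.symm))
  have ne : ∀ {γ : G} {a b : H} {k l : ℕ}, γ * a * γ⁻¹ = φ (ev k) → γ * b * γ⁻¹ = φ (ev l) →
      k < 30720 → l < 30720 → a = b → k = l := fun e1 e2 hk hl e => h.F_inj hk hl (by rw [← e1, ← e2, e])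
  have al : ∀ {γ : G} {a : H} {k : ℕ}, γ * a * γ⁻¹ = φ (ev k) → k < 30720 → (IsConj (φ c0) (a : G) ↔ lb 38 k) :=
    fun e hk => by rw [← lab hk, ← e, conj_al]
  have xl : ∀ {γ : G} {x : H} {k : ℕ}, γ * z * γ⁻¹ = φ (ev 128) → γ * x * γ⁻¹ = φ (ev k) → k < 30720 →
      mR k 3840 = mR 3840 k → IsConj (φ c0) (x : G) ∧ IsConj (φ c0) (x * z : H) →
      k ∈ [1, 129, 80, 208, 81, 209] := fun a2 e hk b hx => (mirT _ hk b).1 ((al e hk).1 hx.1)
    ((al (tr _ _ _ e a2 ⟨⟨hk, by norm_num⟩, rfl⟩) (mR_lt hk (by norm_num))).1 hx.2)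
  let t : H := ⟨φ (ev 129), (mem _).2 ⟨(h.F_comm (by norm_num) (by norm_num)).2 (by decide +kernel),
    (h.F_comm (by norm_num) (by norm_num)).2 (by decide +kernel)⟩⟩
  have ht : IsConj (φ c0) (t : G) ∧ IsConj (φ c0) (t * z : H) :=
    ⟨h2, by rw [Subgroup.coe_mul, F_mul' φ 129 512 641]; exact h5⟩
  have gm : ∀ w, E w * ev 512 = ev 512 * E w → E w * ev 15468 = ev 15468 * E w → φ (E w) ∈ H := fun w a b =>
    (mem _).2 ⟨by rw [← map_mul, a, map_mul], by rw [← map_mul, b, map_mul]⟩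
  let g' : H := ⟨_, gm [3, 5, 4, 5, 3, 1, 9, 2, 9, 9] (E_comm _ _) (E_comm _ _)⟩
  let g'' : H := ⟨_, gm [4, 8, 8, 3, 13, 5, 4, 5, 3, 9] (E_comm _ _) (E_comm _ _)⟩
  have Xc : ∀ g a : H, IsConj (φ c0) (a : G) ∧ IsConj (φ c0) (a * z : H) →
      IsConj (φ c0) ((g * a * g⁻¹ : H) : G) ∧ IsConj (φ c0) (g * a * g⁻¹ * z : H) := fun g a ha =>
    ⟨(conj_al _).2 ha.1, cz g a ▸ (conj_al _).2 ha.2⟩
  have cs : ((g' * t * g'⁻¹ * (g'' * t * g''⁻¹) : H) : G) = φ (E [4, 14, 3, 3, 12, 12, 3, 9, 9]) := by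
    change φ _ * φ _ * (φ _)⁻¹ * (φ _ * φ _ * (φ _)⁻¹) = _
    rw [← map_inv, ← map_inv, ev_cp, E_inv _ [8, 8, 1, 8, 2, 4, 5, 3, 5, 4], E_inv _ [8, 4, 5, 3, 5, 12, 4, 9, 9, 3]]
    simp only [← map_mul, ← E_append]
    exact congrArg φ (E_eq _ _ (by decide +kernel))
  have ct : (((g' * t * g'⁻¹ * (g'' * t * g''⁻¹)) * t * (g' * t * g'⁻¹ * (g'' * t * g''⁻¹))⁻¹ : H) : G) =
      φ (ev 657) := by
    rw [Subgroup.coe_mul, Subgroup.coe_mul, Subgroup.coe_inv, cs, mul_inv_eq_iff_eq_mul]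
    change φ _ * φ _ = _
    rw [← map_mul, ← map_mul, ev, ev, ← E_append, ← E_append]
    exact congrArg φ (E_eq _ _ (by decide +kernel))
  refine mirror2 z hz zz (fun e => z1 (congrArg Subtype.val e))
    (fun a => IsConj (φ c0) (a : G) ∧ IsConj (φ c0) (a * z : H))
    (fun b => (b * b = 1 ∧ ¬ IsConj (φ c0) (b : G) ∧ ¬ IsConj (φ c0) (b * z : H) ∧ b ≠ 1 ∧ b ≠ z) ∧
      ∃ a : H, (IsConj (φ c0) (a : G) ∧ IsConj (φ c0) (a * z : H)) ∧ ∀ x : H,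
        (IsConj (φ c0) (x : G) ∧ IsConj (φ c0) (x * z : H)) → x * a = a * x → b * x = x * b ∨ b * x = x * b * z) Xc
    (fun g b ⟨⟨b1, b2, b3, b4, b5⟩, a, ha, b6⟩ => ⟨⟨by rw [conj_mul, b1, mul_one, mul_inv_cancel],
      fun a => b2 ((conj_al _).1 a), fun a => b3 ((conj_al _).1 (cz g b ▸ a)), by simpa using b4,
      fun a => b5 (by rw [mul_inv_eq_iff_eq_mul, ← hz] at a; exact mul_left_cancel a)⟩, _, Xc g a ha, fun x hx e => by
        obtain ⟨x, rfl⟩ : ∃ y, x = g * y * g⁻¹ := ⟨g⁻¹ * x * g, by group⟩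
        rw [conj_mul, conj_mul, conj_inj] at e
        rw [conj_mul, conj_mul, mul_assoc _ _ z, hz, ← mul_assoc _ z, mul_assoc g _ z, conj_inj, conj_inj]
        exact b6 x (by simpa [mul_assoc] using Xc g⁻¹ _ hx) e⟩)
    (fun a ha => ⟨ha.2, by rw [mul_assoc, zz, mul_one]; exact ha.1⟩)
    (fun b ⟨⟨b1, b2, b3, b4, b5⟩, a, ha, b6⟩ => ⟨⟨by rw [mul_assoc, ← mul_assoc z, ← hz, mul_assoc, zz, mul_one, b1], b3,
      by rw [mul_assoc, zz, mul_one]; exact b2, fun a => b5 (by rw [← zz] at a; exact mul_right_cancel a),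
      by simpa using b4⟩, a, ha, fun x hx e => by
        rw [mul_assoc, ← hz, ← mul_assoc, ← mul_assoc, mul_left_inj, mul_left_inj]
        exact b6 x hx e⟩)
    (fun a ha => Subtype.ext (sq_of_al ha.1)) (fun b hb => hb.1.1) (fun a ha hb => hb.1.2.1 ha.1)
    (fun a => h.n1 a.1) (fun a ha => ?_) (fun b hb => hb.2) (fun a x b ha hx ⟨hb, _⟩ c1 c2 c3 => ?_)
    (fun a ha => ?_) t _ _ ht (Xc g' t ht) (Xc g'' t ht) (Subtype.ext ?_) (Subtype.ext ?_) (fun e => ?_) fun e => ?_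
  · obtain ⟨γ, a1, a2, a3, -, a4⟩ := fr a ha
    obtain ⟨y, y1, y2⟩ := a4 80 (by norm_num) (by decide +kernel)
    have y3 := tr γ a y a1 y2 (m := 81) (by decide +kernel)
    have y4 := tr γ a z a1 a2 (m := 129) (by decide +kernel)
    have y5 := tr γ y z y2 a2 (m := 208) (by decide +kernel)
    have y6 := tr γ _ z y3 a2 (m := 209) (by decide +kernel)
    refine ⟨y, ⟨(al y2 (by norm_num)).2 (by decide +kernel), (al y5 (by norm_num)).2 (by decide +kernel)⟩, y1.symm,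
      ⟨(al y3 (by norm_num)).2 (by decide +kernel), (al y6 (by norm_num)).2 (by decide +kernel)⟩, fun x hx c1 => ?_⟩
    obtain ⟨k, hk, b, e⟩ := a3 x c1 hx.1
    have := xl a2 e hk b hx
    simp only [List.mem_cons, List.not_mem_nil, or_false] at this
    exact this.imp (fun a => eq (a ▸ e) a1) (.imp (fun a => eq (a ▸ e) y4) (.imp (fun a => eq (a ▸ e) y2)
      (.imp (fun a => eq (a ▸ e) y5) (.imp (fun a => eq (a ▸ e) y3) fun a => eq (a ▸ e) y6))))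
  · obtain ⟨γ, a1, a2, a3, a4, -⟩ := fr a ha
    obtain ⟨k, hk, b0, e⟩ := a3 x c1 hx.1
    obtain ⟨l, hl, b', κ, c, e'⟩ := a4 b c2
    by_cases k1 : k = 1 ∨ k = 129
    · exact k1.imp (fun a => eq (a ▸ e) a1) fun a => eq (a ▸ e) (tr γ _ z a1 a2 (by decide +kernel))
    have k2 : k ∈ [80, 208, 81, 209] := by simpa [not_or.1 k1] using xl a2 e hk b0 hx
    obtain rfl : κ = 1 := by
      rcases c.k1 with ⟨d1, d2⟩ | d
      · have d3 : φ (ev l * ev l) * (κ * κ) = 1 := by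
          rw [map_mul, mul_assoc, ← mul_assoc _ κ, ← d1, ← mul_assoc, ← e', conj_mul, ← Subgroup.coe_mul,
            hb.1, Subgroup.coe_one, mul_one, mul_inv_cancel]
        have d4 := h.sq1 (fun x => (Commute.mul_left (d1 x) (d1 x)).eq) d3
        refine d2 ?_
        rw [show 4 = 2 * 2 from rfl, pow_mul, pow_two κ, eq_inv_of_mul_eq_one_right d3, inv_pow, ← map_pow, pow_two,
          d4, map_one, inv_one]
      · have d3 : φ (ev l) * κ * φ (ev k) = φ (ev k) * (φ (ev l) * κ) := by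
          rw [← e, ← e', conj_mul, conj_mul, conj_inj]; exact congrArg Subtype.val c3
        rw [mul_assoc, d _ (evN k ((by decide +kernel : ∀ k ∈ [80, 208, 81, 209], k < 30720 ∧ sg k = 1) k k2)), ← mul_assoc, ← mul_assoc, ← mul_assoc, mul_left_inj,
          ← ev_one, F_mul φ hl hk, F_mul φ (mR_lt hl hk), F_mul φ hk hl] at d3
        exact absurd (h.F_inj (mR_lt (mR_lt hl hk) (by norm_num)) (mR_lt hk hl) d3) (mirU l hl b' k k2)
    rw [mul_one] at e'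
    have b1 : γ * (1 : H) * γ⁻¹ = φ (ev 0) := by simp [ev_zero]
    refine (((mirT l hl b').2 k (xl a2 e hk b0 hx)).2
      (ne (tr γ b b e' e' ⟨⟨hl, hl⟩, rfl⟩) b1 (mR_lt hl hl) (by norm_num) hb.1) (mt (al e' hl).2 hb.2.1)
      (mt (al (tr γ b z e' a2 ⟨⟨hl, by norm_num⟩, rfl⟩) (mR_lt hl (by norm_num))).2 hb.2.2.1)
      (fun a => hb.2.2.2.1 (eq (a ▸ e') b1)) (fun a => hb.2.2.2.2 (eq (a ▸ e') a2))
      (ne (tr γ b x e' e ⟨⟨hl, hk⟩, rfl⟩) (tr γ x b e e' ⟨⟨hk, hl⟩, rfl⟩) (mR_lt hl hk) (mR_lt hk hl) c3)).imp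
      (fun a => eq (a ▸ e) a1) fun a => eq (a ▸ e) (tr γ _ z a1 a2 (by decide +kernel))
  · obtain ⟨γ, a1, a2, a3, -, a4⟩ := fr a ha
    obtain ⟨y, y1, y2⟩ := a4 66 (by norm_num) (by decide +kernel)
    have b1 : γ * (1 : H) * γ⁻¹ = φ (ev 0) := by simp [ev_zero]
    refine ⟨y, ⟨⟨eq (tr γ y y y2 y2 (by decide +kernel)) b1, mt (al y2 (by norm_num)).1 (by decide +kernel),
      mt (al (tr γ y z y2 a2 (m := 194) (by decide +kernel)) (by norm_num)).1 (by decide +kernel),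
      mt (ne y2 b1 (by norm_num) (by norm_num)) (by norm_num),
      mt (ne y2 a2 (by norm_num) (by norm_num)) (by norm_num)⟩, a, ha, fun x hx c1 => ?_⟩, y1⟩
    obtain ⟨k, hk, b, e⟩ := a3 x c1 hx.1
    have l66 : 66 < 30720 := by norm_num
    have b1 := tr γ y x y2 e ⟨⟨l66, hk⟩, rfl⟩
    have b2 := tr γ x y e y2 ⟨⟨hk, l66⟩, rfl⟩
    exact ((mirT 66 l66 (by decide +kernel)).2 k (xl a2 e hk b hx)).1.imp (fun a => eq (a ▸ b1) b2)
      fun a => eq (a ▸ b1) (tr γ _ z b2 a2 ⟨⟨mR_lt hk l66, by norm_num⟩, rfl⟩)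
  · rw [Subgroup.coe_pow, cs, ← map_pow, pow_succ, pow_two, ← E_append, ← E_append, E_eq _ [] (by decide +kernel)]
    exact φ.map_one
  · rw [Subgroup.coe_mul _ _ t, Subgroup.coe_mul _ t, ct]
    exact (h.F_comm (by norm_num) (by norm_num)).2 (by decide +kernel)
  · rw [e] at ct
    exact absurd (h.F_inj (a := 129) (by norm_num) (by norm_num) ct) (by norm_num)
  · rw [e, Subgroup.coe_mul, F_mul' φ 129 512 641] at ct
    exact absurd (h.F_inj (by norm_num) (by norm_num) ct) (by norm_num)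

theorem St2.a4 [Finite G] (h : St2 φ) : IsConj (φ c0) (φ (ev 512)) := h.claim2.1.resolve_right h.n5

end Cfsg.Agent.HN
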